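import Cfsg.Agent.Lib.Lie.JankoMultiplier

/-!
# A stem extension of `J₁` in any universe is an isomorphism
-/

set_option autoImplicit false
set_option maxRecDepth 20000

namespace Cfsg.Agent.Lead.JankoClosure

open Cfsg.Spor
open Cfsg.Agent.Lie Cfsg.Agent.Lie.Janko

universe u

theorem ker_eq_bot_of_stem {Γ : Type u} [Group Γ] [Finite Γ] (σ : Γ →* J1) (hσ : Cfsg.IsStemExtension σ) :
    σ.ker = ⊥ := by
  refine StemSylow.ker_eq_bot σ hσ fun p hp P => ?_
  haveI := Fact.mk hp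
  obtain ⟨hsurj, hc, -⟩ := hσ
  have hpm : IsPGroup p ((P : Subgroup Γ).map σ) := P.isPGroup'.map σ
  by_cases h2 : p = 2
  · subst h2
    obtain ⟨a, b, c, h, ab, ac, bc, e1, e2, e3, S, hS⟩ := exists_four
    obtain ⟨Q, hQ⟩ := hpm.exists_le_sylow
    obtain ⟨g, hg⟩ := MulAction.exists_smul_eq J1 Q S
    obtain ⟨γ, rfl⟩ := hsurj g
    have hin : ∀ x : Γ, x ∈ (P : Subgroup Γ) → σ (γ * x * γ⁻¹) ∈ Subgroup.closure ({a, b, c} : Set J1) := by
      intro x hx
      rw [← hS, ← hg, Sylow.coe_subgroup_smul]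
      exact ⟨σ x, hQ ⟨x, hx, rfl⟩, by simp⟩
    refine ⟨⟨fun x y => Subtype.ext ?_⟩⟩
    have := StemSylow.lifts_commute σ hsurj hc ab ac bc e1 e2 e3 (hin x x.2) (hin y y.2)
    show (x : Γ) * y = y * x
    rw [conj_mul, conj_mul] at this
    exact (MulAut.conj γ).injective this
  · refine StemSylow.comm_of_cyclic_image σ hc _ ?_
    obtain ⟨n, hn⟩ := hpm.exists_card_eq
    have hdvd : p ^ n ∣ 175560 := by
      rw [← hn, ← card_eq]
      exact Subgroup.card_subgroup_dvd_card _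
    have hn1 : n ≤ 1 := by
      by_contra hgt
      have h2' : p ^ 2 ∣ 175560 := (pow_dvd_pow p (by omega)).trans hdvd
      have hpd : p ∣ 2 ^ 3 * 3 * 5 * 7 * 11 * 19 := (dvd_pow_self p two_ne_zero).trans h2'
      rcases hp.dvd_mul.1 hpd with hd | hd
      rcases hp.dvd_mul.1 hd with hd | hd
      rcases hp.dvd_mul.1 hd with hd | hd
      rcases hp.dvd_mul.1 hd with hd | hd
      rcases hp.dvd_mul.1 hd with hd | hd
      · exact h2 ((Nat.prime_dvd_prime_iff_eq hp Nat.prime_two).1 (hp.dvd_of_dvd_pow hd))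
      all_goals
        rw [Nat.prime_dvd_prime_iff_eq hp (by norm_num)] at hd
        subst hd
        norm_num at h2'
    rcases Nat.le_one_iff_eq_zero_or_eq_one.1 hn1 with rfl | rfl
    · haveI := (Nat.card_eq_one_iff_unique.1 (by rw [hn, pow_zero])).1
      infer_instance
    · exact isCyclic_of_prime_card (by rw [hn, pow_one])

end Cfsg.Agent.Lead.JankoClosure
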