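import Cfsg.Agent.Lib.Lead.JankoClosure.Split
import Cfsg.Agent.Lib.Lead.JankoClosure.Stem
import Cfsg.Agent.Lib.Lead.JankoTwoAlt.Five

/-!
# The block `M × Q`
-/

set_option autoImplicit false
set_option linter.style.haveILetI false

namespace Cfsg.Agent.Lead.JankoClosure

open Subgroup Cfsg
open scoped commutatorElement

universe u

theorem A5_commutator : ∀ x : A5, ∃ p q : A5, x = p * q * p⁻¹ * q⁻¹ := by decide +kernel

variable {G : Type u} [Group G] [Finite G]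

theorem relIndex_inf_of_normal {X : Type u} [Group X] [Finite X] (P T : Subgroup X) [T.Normal] :
    (P ⊓ T).relIndex T ∣ P.index := by
  refine ⟨(P ⊔ T).index, ?_⟩
  have h1 := relIndex_mul_relIndex ⊥ (P ⊓ T) P bot_le inf_le_left
  have h2 := relIndex_mul_relIndex ⊥ (P ⊓ T) T bot_le inf_le_right
  have h3 := relIndex_mul_relIndex ⊥ T (P ⊔ T) bot_le le_sup_right
  simp only [relIndex_bot_left, inf_relIndex_right, inf_relIndex_left, relIndex_sup_right] at h1 h2 h3 ⊢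
  have h4 := (P ⊔ T).card_mul_index
  rw [← h3, ← h2, ← P.card_mul_index, ← h1] at h4
  have hpos : 0 < Nat.card ↥(P ⊓ T) * T.relIndex P := by rw [h1]; exact Nat.card_pos
  refine (Nat.eq_of_mul_eq_mul_left hpos ?_).symm
  rw [← h4]; ring

namespace WCtx

variable (D : WCtx G)

theorem W_comm_Q {w q : G} (hw : w ∈ D.W) (hq : q ∈ D.Q) : w * q = q * w := by
  have hA := D.Q_le_A hq
  obtain ⟨a, rfl | rfl⟩ := D.split w hw
  · exact ((D.mem_A.1 hA).2 a).symm
  · rw [mul_assoc, ← (D.mem_A.1 hA).2 a, ← mul_assoc, ← D.CE_comm_t (D.mem_A.1 hA).1, mul_assoc]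

theorem W_Q {x : G} (hw : x ∈ D.W) (hq : x ∈ D.Q) : x = 1 := by
  have hA := D.Q_le_A hq
  obtain ⟨a, rfl | rfl⟩ := D.split x hw
  · have : a = 1 := center_trivial a fun b => D.emb_inj (by
      rw [map_mul, map_mul]; exact (D.mem_A.1 hA).2 b)
    rw [this, map_one]
  · have : a = 1 := center_trivial a fun b => D.emb_inj (by
      rw [map_mul, map_mul]
      have := (D.mem_A.1 hA).2 b
      rw [mul_assoc, ← mul_assoc (D.emb b), D.emb_comm, mul_assoc] at this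
      exact mul_left_cancel this)
    subst this
    rw [map_one, mul_one] at hq ⊢
    exact D.Q_E hq D.t_mem_E

theorem cent_split {c : G} (hc : c * D.t = D.t * c) : ∃ w ∈ D.W, ∃ q ∈ D.Q, c = w * q := by
  haveI : Fact (Nat.Prime 2) := ⟨Nat.prime_two⟩
  have hEW : D.E ≤ D.W := inf_le_right
  have hE' : D.E.map (MulAut.conj c).toMonoidHom ≤ D.W := by
    rintro _ ⟨x, hx, rfl⟩
    exact D.normal_W hc hx.2
  have hfac : (Nat.card D.W).factorization 2 = 3 := by
    rw [D.card_W, show (120 : ℕ) = 15 * 2 ^ 3 from rfl, Nat.factorization_mul (by norm_num) (by norm_num),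
      Finsupp.add_apply, Nat.Prime.factorization_pow Nat.prime_two, Finsupp.single_eq_same,
      Nat.factorization_eq_zero_of_not_dvd (by norm_num)]
  let P : Sylow 2 D.W := Sylow.ofCard (D.E.subgroupOf D.W) (by
    rw [Nat.card_congr (subgroupOfEquivOfLe hEW).toEquiv, D.card_E, hfac]; rfl)
  let P' : Sylow 2 D.W := Sylow.ofCard ((D.E.map (MulAut.conj c).toMonoidHom).subgroupOf D.W) (by
    rw [Nat.card_congr (subgroupOfEquivOfLe hE').toEquiv,
      card_map_of_injective (MulAut.conj c).injective, D.card_E, hfac]; rfl)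
  obtain ⟨g, hg⟩ := MulAction.exists_smul_eq D.W P' P
  have hN : (g : G) * c ∈ D.Nt := by
    refine ⟨D.mem_N_of fun x hx => ?_, mem_centralizer_singleton_iff.2 ?_⟩
    · have hm : g * ⟨c * x * c⁻¹, hE' ⟨x, hx, rfl⟩⟩ * g⁻¹ ∈ ((g • P' : Sylow 2 D.W) : Subgroup D.W) := by
        rw [Sylow.coe_subgroup_smul]
        exact smul_mem_pointwise_smul _ (MulAut.conj g) _ (mem_subgroupOf.2 ⟨x, hx, rfl⟩)
      rw [hg] at hm
      rw [show (g : G) * c * x * ((g : G) * c)⁻¹ = (g : G) * (c * x * c⁻¹) * (g : G)⁻¹ by group]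
      exact hm
    · rw [mul_assoc, hc, ← mul_assoc, D.comm_W g.2, mul_assoc]
  obtain ⟨i, hi⟩ := D.Nt_cases hN
  obtain ⟨e, he, hq⟩ := D.CE_split hi
  refine ⟨(g : G)⁻¹ * D.emb k0 ^ i * e⁻¹, mul_mem (mul_mem (inv_mem g.2) (pow_mem (D.emb_mem _) i))
    (inv_mem (hEW he)), _, hq, ?_⟩
  group

theorem Q_conj_W {w q : G} (hw : w ∈ D.W) (hq : q ∈ D.Q) : w * q * w⁻¹ ∈ D.Q := by
  rwa [D.W_comm_Q hw hq, mul_inv_cancel_right]

theorem Q_comm_M {m q : G} (hm : m ∈ D.M) (hq : q ∈ D.Q) : m * q = q * m := by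
  have hle : D.M ≤ centralizer (D.Q : Set G) := by
    refine (closure_le _).2 ?_
    rintro _ ⟨n, hn, a, rfl⟩
    refine mem_centralizer_iff.2 fun q hq => ?_
    have h := (D.mem_A.1 (hq n hn)).2 a
    calc q * (n * D.emb a * n⁻¹) = n * (n⁻¹ * q * n * D.emb a) * n⁻¹ := by group
      _ = n * D.emb a * n⁻¹ * q := by rw [h]; group
  exact (mem_centralizer_iff.1 (hle hm) q hq).symm

omit [Finite G] in
theorem N_conj_M {n m : G} (hn : n ∈ D.N) (hm : m ∈ D.M) : n * m * n⁻¹ ∈ D.M := by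
  have hle : D.M ≤ D.M.comap (MulAut.conj n).toMonoidHom := by
    refine (closure_le _).2 ?_
    rintro _ ⟨l, hl, a, rfl⟩
    exact subset_closure ⟨n * l, mul_mem hn hl, a, by show n * (l * D.emb a * l⁻¹) * n⁻¹ = _; group⟩
  exact hle hm

theorem t_mem_M : D.t ∈ D.M := by
  obtain ⟨n, hn, he⟩ := D.orbit D.a_mem fun e => basics.1 (D.emb_inj (e.trans (map_one _).symm))
  have h := D.conj_emb_mem_M (inv_mem hn) a0
  rwa [← he, show n⁻¹ * (n * D.t * n⁻¹) * n⁻¹⁻¹ = D.t by group] at h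

theorem W_le_M {w : G} (hw : w ∈ D.W) : w ∈ D.M := by
  obtain ⟨a, rfl | rfl⟩ := D.split w hw
  · exact D.emb_mem_M a
  · exact mul_mem D.t_mem_M (D.emb_mem_M a)

/-- the block -/
def G0 : Subgroup G where
  carrier := {x | ∃ m ∈ D.M, ∃ q ∈ D.Q, x = m * q}
  one_mem' := ⟨1, one_mem _, 1, one_mem _, (one_mul 1).symm⟩
  mul_mem' := by
    rintro _ _ ⟨m, hm, q, hq, rfl⟩ ⟨m', hm', q', hq', rfl⟩
    exact ⟨m * m', mul_mem hm hm', q * q', mul_mem hq hq', by
      rw [mul_assoc m q, ← mul_assoc q m', ← D.Q_comm_M hm' hq]; group⟩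
  inv_mem' := by
    rintro _ ⟨m, hm, q, hq, rfl⟩
    exact ⟨m⁻¹, inv_mem hm, q⁻¹, inv_mem hq, by
      rw [mul_inv_rev, ← D.Q_comm_M (inv_mem hm) (inv_mem hq)]⟩

theorem M_le_G0 {m : G} (hm : m ∈ D.M) : m ∈ D.G0 := ⟨m, hm, 1, one_mem _, (mul_one m).symm⟩

theorem Q_le_G0 {q : G} (hq : q ∈ D.Q) : q ∈ D.G0 := ⟨1, one_mem _, q, hq, (one_mul q).symm⟩

theorem cent_le_G0 {c : G} (hc : c * D.t = D.t * c) : c ∈ D.G0 := by
  obtain ⟨w, hw, q, hq, rfl⟩ := D.cent_split hc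
  exact mul_mem (D.M_le_G0 (D.W_le_M hw)) (D.Q_le_G0 hq)

theorem N_le_G0 {n : G} (hn : n ∈ D.N) : n ∈ D.G0 := by
  obtain ⟨r, -, hr7, -, hrM⟩ := D.exists_r
  obtain ⟨i, hi⟩ := D.orbit_pow hr7 (x := ⟨n * D.t * n⁻¹, D.conj_mem_E hn D.t_mem_E⟩) fun e =>
    D.InD_ne ⟨n, rfl⟩ (congrArg Subtype.val e)
  have hi : (r : G) ^ i * D.t * ((r : G) ^ i)⁻¹ = n * D.t * n⁻¹ := by
    have := congrArg Subtype.val hi
    rwa [← map_pow, D.φ_apply] at this
  have hm : ((r : G) ^ i)⁻¹ * n ∈ D.G0 := D.cent_le_G0 (by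
    calc ((r : G) ^ i)⁻¹ * n * D.t = ((r : G) ^ i)⁻¹ * (n * D.t * n⁻¹) * n := by group
      _ = D.t * (((r : G) ^ i)⁻¹ * n) := by rw [← hi]; group)
  simpa using mul_mem (D.M_le_G0 (pow_mem hrM i)) hm

theorem G0_conj_M {x m : G} (hx : x ∈ D.G0) (hm : m ∈ D.M) : x * m * x⁻¹ ∈ D.M := by
  obtain ⟨m', hm', q, hq, rfl⟩ := hx
  rw [show m' * q * m * (m' * q)⁻¹ = m' * (q * m * q⁻¹) * m'⁻¹ by group, ← D.Q_comm_M hm hq,
    mul_inv_cancel_right]
  exact mul_mem (mul_mem hm' hm) (inv_mem hm')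

theorem G0_conj_Q {x q : G} (hx : x ∈ D.G0) (hq : q ∈ D.Q) : x * q * x⁻¹ ∈ D.Q := by
  obtain ⟨m, hm, p, hp, rfl⟩ := hx
  rw [show m * p * q * (m * p)⁻¹ = m * (p * q * p⁻¹) * m⁻¹ by group,
    D.Q_comm_M hm (mul_mem (mul_mem hp hq) (inv_mem hp)), mul_inv_cancel_right]
  exact mul_mem (mul_mem hp hq) (inv_mem hp)

theorem M_perfect : commutator D.M = ⊤ := by
  rw [eq_top_iff]
  have key : D.M ≤ (commutator D.M).map D.M.subtype := by
    refine (closure_le _).2 ?_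
    rintro _ ⟨n, hn, a, rfl⟩
    obtain ⟨p, q, rfl⟩ := A5_commutator a
    refine ⟨⁅(⟨_, D.conj_emb_mem_M hn p⟩ : D.M), ⟨_, D.conj_emb_mem_M hn q⟩⁆, ?_, ?_⟩
    · exact commutator_mem_commutator (mem_top _) (mem_top _)
    · simp only [commutatorElement_def, map_mul, map_inv, coe_subtype]
      group
  rintro ⟨x, hx⟩ -
  obtain ⟨y, hy, e⟩ := key hx
  exact (Subtype.ext e : y = ⟨x, hx⟩) ▸ hy

/-- `M` is the first Janko group, it meets `Q` trivially, and it has one class of involutions. -/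
theorem M_facts : Spor.IsoJ1 D.M ∧ (∀ x ∈ D.M, x ∈ D.Q → x = 1) ∧
    ∀ x ∈ D.M, x * x = 1 → x ≠ 1 → ∃ m ∈ D.M, m * D.t * m⁻¹ = x := by
  haveI : Fact (Nat.Prime 2) := ⟨Nat.prime_two⟩
  set Z := D.Q.subgroupOf D.M
  haveI hZ : Z.Normal := ⟨fun z hz m => by
    show (m : G) * z * (m : G)⁻¹ ∈ D.Q
    exact D.G0_conj_Q (D.M_le_G0 m.2) hz⟩
  let π : D.M →* D.M ⧸ Z := QuotientGroup.mk' Z
  have hker : ∀ x : D.M, π x = 1 ↔ (x : G) ∈ D.Q := fun x => QuotientGroup.eq_one_iff x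
  have hmW : ∀ x : D.M, π x * π ⟨D.t, D.t_mem_M⟩ = π ⟨D.t, D.t_mem_M⟩ * π x →
      ∃ a : A5, π x = π ⟨D.emb a, D.emb_mem_M a⟩ ∨
        π x = π ⟨D.t, D.t_mem_M⟩ * π ⟨D.emb a, D.emb_mem_M a⟩ := by
    intro x hx
    set T : D.M := ⟨D.t, D.t_mem_M⟩
    have hz : π (T⁻¹ * (x * T * x⁻¹)) = 1 := by
      rw [map_mul, map_inv, map_mul, map_mul, map_inv, hx]; group
    have hzQ : D.t⁻¹ * ((x : G) * D.t * (x : G)⁻¹) ∈ D.Q := (hker _).1 hz
    have hc : (x : G) * D.t * (x : G)⁻¹ * D.t = D.t * ((x : G) * D.t * (x : G)⁻¹) := by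
      have := D.CE_comm_t (D.mem_A.1 (D.Q_le_A hzQ)).1
      calc (x : G) * D.t * (x : G)⁻¹ * D.t = D.t * (D.t⁻¹ * ((x : G) * D.t * (x : G)⁻¹) * D.t) := by group
        _ = D.t * (D.t * (D.t⁻¹ * ((x : G) * D.t * (x : G)⁻¹))) := by rw [this]
        _ = D.t * ((x : G) * D.t * (x : G)⁻¹) := by group
    have h1 := D.W_Q (mul_mem (inv_mem D.t_mem_W) (D.mem_W_of_comm ⟨x, rfl⟩ hc)) hzQ
    have hxt : (x : G) * D.t = D.t * x := by
      rw [inv_mul_eq_one] at h1
      exact mul_inv_eq_iff_eq_mul.1 h1.symm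
    obtain ⟨w, hw, q, hq, hxwq⟩ := D.cent_split hxt
    have hqM : q ∈ D.M := by
      have := mul_mem (inv_mem (D.W_le_M hw)) x.2
      rwa [hxwq, inv_mul_cancel_left] at this
    have hxw : π x = π ⟨w, D.W_le_M hw⟩ := by
      rw [show x = ⟨w, D.W_le_M hw⟩ * ⟨q, hqM⟩ from Subtype.ext hxwq, map_mul,
        (hker ⟨q, hqM⟩).2 hq, mul_one]
    obtain ⟨a, ha | ha⟩ := D.split w hw
    · exact ⟨a, Or.inl (hxw.trans (congrArg π (Subtype.ext ha)))⟩
    · refine ⟨a, Or.inr (hxw.trans ?_)⟩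
      rw [← map_mul]
      exact congrArg π (Subtype.ext ha)
  -- a Sylow subgroup centralizing `t`
  have hSle : (D.S : Subgroup G) ≤ D.G0 := fun s hs => D.cent_le_G0 (D.htc s hs)
  haveI hMn : (D.M.subgroupOf D.G0).Normal := ⟨fun m hm g => D.G0_conj_M g.2 hm⟩
  have hSM : ¬ 2 ∣ ((D.S : Subgroup G) ⊓ D.M).relIndex D.M := by
    intro h
    apply (D.S.subtype hSle).not_dvd_index
    refine h.trans ?_
    have := relIndex_inf_of_normal (((D.S : Subgroup G)).subgroupOf D.G0) (D.M.subgroupOf D.G0)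
    rw [inf_relIndex_right, relIndex_subgroupOf (fun m hm => D.M_le_G0 hm)] at this
    rw [inf_relIndex_right]
    exact this
  let PM : Sylow 2 D.M := IsPGroup.toSylow (P := ((D.S : Subgroup G) ⊓ D.M).subgroupOf D.M)
    ((D.S.2.to_le inf_le_left).of_equiv (subgroupOfEquivOfLe inf_le_right).symm) hSM
  let e : A5 →* D.M ⧸ Z := π.comp (D.emb.codRestrict D.M D.emb_mem_M)
  have he : Function.Injective e := by
    rw [injective_iff_map_eq_one]
    intro a ha
    have := D.W_Q (D.emb_mem a) ((hker _).1 ha)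
    exact D.emb_inj (this.trans (map_one _).symm)
  set J := π ⟨D.t, D.t_mem_M⟩
  have hJ : orderOf J = 2 := orderOf_eq_prime (by
      rw [pow_two, ← map_mul]; exact (hker _).2 (by show D.t * D.t ∈ D.Q; rw [D.sq_t]; exact one_mem _))
    fun h => D.t_ne (D.W_Q D.t_mem_W ((hker _).1 h))
  have hJe : ∀ a, e a * J = J * e a := fun a => by
    show π _ * π _ = π _ * π _
    rw [← map_mul, ← map_mul]
    exact congrArg π (Subtype.ext (D.emb_comm a))
  let C : Agent.Lead.JankoTwoAlt.Ctx (D.M ⧸ Z) 5 :=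
    { J := J, T := e.range, e := (MonoidHom.ofInjective he).symm, hJ := hJ
      P := PM.mapSurjective (QuotientGroup.mk'_surjective Z)
      hJP := by
        refine ⟨⟨D.t, D.t_mem_M⟩, ?_, rfl⟩
        exact ⟨D.htS, D.t_mem_M⟩
      hcen := by
        rintro _ ⟨s, hs, rfl⟩
        show π s * π _ = π _ * π s
        rw [← map_mul, ← map_mul]
        exact congrArg π (Subtype.ext (D.htc _ hs.1))
      comm := by rintro _ ⟨a, rfl⟩; exact hJe a
      hJT := by
        rintro ⟨a, ha⟩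
        have h : π (⟨D.t, D.t_mem_M⟩⁻¹ * ⟨D.emb a, D.emb_mem_M a⟩) = 1 := by
          rw [map_mul, map_inv, show π ⟨D.emb a, D.emb_mem_M a⟩ = J from ha, inv_mul_cancel]
        have h1 := D.W_Q (mul_mem (inv_mem D.t_mem_W) (D.emb_mem a)) ((hker _).1 h)
        exact D.emb_ne a (inv_mul_eq_one.1 h1).symm
      split := by
        intro x hx
        obtain ⟨y, rfl⟩ := QuotientGroup.mk'_surjective Z x
        obtain ⟨a, ha | ha⟩ := hmW y hx
        · exact Or.inl ⟨a, ha.symm⟩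
        · refine Or.inr ⟨a, ?_⟩
          rw [show J * QuotientGroup.mk' Z y = J * π y from rfl, ha, ← mul_assoc,
            show J * J = 1 by rw [← pow_two, ← hJ]; exact pow_orderOf_eq_one J, one_mul]
          rfl
      noTwo := fun L hL h2 => by
        have hle : commutator (D.M ⧸ Z) ≤ L := by
          haveI : IsCyclic ((D.M ⧸ Z) ⧸ L) := isCyclic_of_prime_card (p := 2) (by rw [← index_eq_card, h2])
          haveI := IsCyclic.isMulCommutative (α := (D.M ⧸ Z) ⧸ L)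
          rw [_root_.commutator_def, commutator_le]
          intro g _ h _
          rw [← QuotientGroup.eq_one_iff, ← QuotientGroup.mk'_apply, map_commutatorElement,
            commutatorElement_eq_one_iff_mul_comm]
          exact mul_comm' _ _
        have htop : commutator (D.M ⧸ Z) = ⊤ := by
          rw [_root_.commutator_def, ← map_top_of_surjective π (QuotientGroup.mk'_surjective Z), ← map_commutator,
            ← _root_.commutator_def, D.M_perfect]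
        rw [htop, top_le_iff] at hle
        rw [hle, index_top] at h2
        omega }
  obtain ⟨ψ⟩ := C.isoJ1
  let σ : D.M →* Spor.J1 := ψ.toMonoidHom.comp π
  have hσker : σ.ker = Z := by
    ext x
    rw [MonoidHom.mem_ker]
    show ψ (π x) = 1 ↔ _
    rw [MulEquiv.map_eq_one_iff, hker]; rfl
  have hσ : IsStemExtension σ := by
    refine ⟨ψ.surjective.comp (QuotientGroup.mk'_surjective Z), ?_, by rw [D.M_perfect]; exact le_top⟩
    rw [hσker]
    intro z hz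
    exact mem_center_iff.2 fun m => Subtype.ext (D.Q_comm_M m.2 hz)
  have hZbot : Z = ⊥ := hσker ▸ ker_eq_bot_of_stem σ hσ
  have hMQ : ∀ x ∈ D.M, x ∈ D.Q → x = 1 := fun x hx hq => by
    have : (⟨x, hx⟩ : D.M) ∈ Z := hq
    rw [hZbot, mem_bot] at this
    exact congrArg Subtype.val this
  have hπinj : Function.Injective π := by
    rw [injective_iff_map_eq_one]
    exact fun x hx => Subtype.ext (hMQ x x.2 ((hker x).1 hx))
  refine ⟨⟨(MulEquiv.ofBijective π ⟨hπinj, QuotientGroup.mk'_surjective Z⟩).trans ψ⟩, hMQ,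
    fun x hx hx2 hx1 => ?_⟩
  have ho : orderOf (π ⟨x, hx⟩) = 2 := by
    rw [orderOf_injective π hπinj, orderOf_mk, orderOf_eq_prime (by rw [pow_two, hx2]) hx1]
  obtain ⟨g, hg⟩ := C.exists_conj_J Agent.Lead.JankoTwoAlt.small_five
    Agent.Lead.JankoTwoAlt.Ctx.card_five (by decide) ho
  obtain ⟨m, rfl⟩ := QuotientGroup.mk'_surjective Z g
  refine ⟨m, m.2, ?_⟩
  have h : π (m * ⟨D.t, D.t_mem_M⟩ * m⁻¹) = π ⟨x, hx⟩ := by rw [map_mul, map_mul, map_inv]; exact hg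
  exact congrArg Subtype.val (hπinj h)

end WCtx

end Cfsg.Agent.Lead.JankoClosure
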