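import Cfsg.Agent.Lib.Lead.JankoClosure.Local

/-!
# The standard position
-/

set_option autoImplicit false
set_option linter.style.haveILetI false

namespace Cfsg.Agent.Lead.JankoClosure

open Subgroup

universe u

theorem two_cases : ∀ i : Multiplicative (ZMod 2), i = 1 ∨ i = Multiplicative.ofAdd 1 := by decide

theorem one_ne : (1 : Multiplicative (ZMod 2)) ≠ Multiplicative.ofAdd 1 := by decide

theorem center_Z2A5 : ∀ z : Multiplicative (ZMod 2) × A5, z * z = 1 → (∀ a : A5, z * (1, a) = (1, a) * z) →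
    z = 1 ∨ z = (Multiplicative.ofAdd 1, 1) := by
  rintro ⟨i, b⟩ - h
  have hb : b = 1 := center_trivial b fun a => congrArg Prod.snd (h a)
  subst hb
  rcases two_cases i with rfl | rfl
  · exact Or.inl rfl
  · exact Or.inr rfl

variable {G : Type u} [Group G] [Finite G]

/-- The hypothesis of the theorem, for a given involution. -/
def Hyp (t : G) : Prop :=
  orderOf t = 2 ∧ (∃ S : Sylow 2 G, t ∈ (S : Subgroup G) ∧ ∀ s ∈ (S : Subgroup G), s * t = t * s) ∧
    Nonempty (↥(closure (conjComm t)) ≃* Multiplicative (ZMod 2) × A5)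

theorem exists_ctx {t : G} (h : Hyp t) : ∃ D : WCtx G, D.t = t := by
  haveI : Fact (Nat.Prime 2) := ⟨Nat.prime_two⟩
  obtain ⟨ht, ⟨S, htS, htc⟩, ⟨e⟩⟩ := h
  set W := closure (conjComm t)
  have htW : t ∈ W := subset_closure ⟨1, by group, rfl⟩
  have hWt : ∀ x ∈ W, x * t = t * x := fun x hx => by
    have hle : W ≤ centralizer ({t} : Set G) :=
      (closure_le _).2 fun y ⟨_, _, hy⟩ => mem_centralizer_singleton_iff.2 hy
    exact mem_centralizer_singleton_iff.1 (hle hx)
  have het : e ⟨t, htW⟩ = (Multiplicative.ofAdd 1, 1) := by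
    refine (center_Z2A5 _ ?_ fun a => ?_).resolve_left ?_
    · rw [← map_mul, ← map_one e]
      exact congrArg e (Subtype.ext (sq_of_order ht))
    · apply e.symm.injective
      rw [map_mul, map_mul, e.symm_apply_apply]
      exact Subtype.ext (hWt _ (e.symm (1, a)).2).symm
    · intro h1
      have h2 : (⟨t, htW⟩ : W) = 1 := e.injective (h1.trans (map_one e).symm)
      have h3 : t = 1 := congrArg Subtype.val h2
      rw [h3, orderOf_one] at ht
      omega
  let emb0 : A5 →* G := W.subtype.comp (e.symm.toMonoidHom.comp (MonoidHom.inr _ _))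
  have hinj0 : Function.Injective emb0 := by
    intro a b h
    have h : e.symm ((1 : Multiplicative (ZMod 2)), a) = e.symm (1, b) := Subtype.ext h
    exact congrArg Prod.snd (e.symm.injective h)
  have hne0 : ∀ a, emb0 a ≠ t := fun a h => by
    have h' : e.symm ((1 : Multiplicative (ZMod 2)), a) = ⟨t, htW⟩ := Subtype.ext h
    rw [e.symm_apply_eq, het] at h'
    exact one_ne (congrArg Prod.fst h')
  have hsplit0 : ∀ x ∈ W, ∃ a, x = emb0 a ∨ x = t * emb0 a := by
    intro x hx
    obtain ⟨⟨i, a⟩, hia⟩ : ∃ z, e ⟨x, hx⟩ = z := ⟨_, rfl⟩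
    refine ⟨a, ?_⟩
    rcases two_cases i with rfl | rfl
    · left
      have := congrArg (fun z => ((e.symm z : W) : G)) hia
      simp only [e.symm_apply_apply] at this
      exact this
    · right
      have h2 : e ⟨x, hx⟩ = e ⟨t, htW⟩ * ((1 : Multiplicative (ZMod 2)), a) := by
        rw [hia, het, Prod.mk_mul_mk, mul_one, one_mul]
      have h3 := congrArg (fun z => ((e.symm z : W) : G)) h2
      simp only [map_mul, e.symm_apply_apply, coe_mul] at h3
      exact h3
  have hmem0 : ∀ a, emb0 a ∈ W := fun a => SetLike.coe_mem _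
  -- the Sylow subgroup of the weak closure
  have hSC : (S : Subgroup G) ≤ centralizer ({t} : Set G) := fun s hs =>
    mem_centralizer_singleton_iff.2 (htc s hs)
  set C := centralizer ({t} : Set G)
  have hWC : W ≤ C := fun x hx => mem_centralizer_singleton_iff.2 (hWt x hx)
  haveI : (W.subgroupOf C).Normal := ⟨fun x hx g => by
    show ((g : G) * (x : G) * (g : G)⁻¹) ∈ W
    exact cent_le_normalizer t (mem_centralizer_singleton_iff.1 g.2) hx⟩
  have hV : IsPGroup 2 (((closure ({emb0 a0, emb0 b0} : Set G)).subgroupOf C)) := by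
    have hle : closure ({emb0 a0, emb0 b0} : Set G) ≤ (closure ({a0, b0} : Set A5)).map emb0 := by
      rw [MonoidHom.map_closure, Set.image_pair]
    refine IsPGroup.of_equiv ?_ (subgroupOfEquivOfLe ((closure_le _).2 ?_)).symm
    · refine ((?_ : IsPGroup 2 (closure ({a0, b0} : Set A5))).map emb0).to_le hle
      intro x
      refine ⟨1, Subtype.ext ?_⟩
      have hle' : closure ({a0, b0} : Set A5) ≤
          { carrier := {v : A5 | v = 1 ∨ v = a0 ∨ v = b0 ∨ v = a0 * b0}
            one_mem' := Or.inl rfl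
            mul_mem' := by rintro p q (rfl | rfl | rfl | rfl) (rfl | rfl | rfl | rfl) <;> decide
            inv_mem' := by rintro p (rfl | rfl | rfl | rfl) <;> decide } := by
        refine (closure_le _).2 ?_
        rintro v (rfl | rfl)
        · exact Or.inr (Or.inl rfl)
        · exact Or.inr (Or.inr (Or.inl rfl))
      show (x : A5) ^ (2 ^ 1) = 1
      rcases hle' x.2 with h | h | h | h <;> rw [h] <;> decide
    · intro v hv
      rcases hv with rfl | rfl <;> exact hWC (hmem0 _)
  obtain ⟨Q, hQ⟩ := hV.exists_le_sylow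
  obtain ⟨c, hc⟩ := MulAction.exists_smul_eq C Q (S.subtype hSC)
  have hct := mem_centralizer_singleton_iff.1 c.2
  have hinS : ∀ v ∈ ({emb0 a0, emb0 b0} : Set G), (c : G) * v * (c : G)⁻¹ ∈ (S : Subgroup G) := by
    intro v hv
    have hvC : v ∈ C := by rcases hv with rfl | rfl <;> exact hWC (hmem0 _)
    have hm : c * ⟨v, hvC⟩ * c⁻¹ ∈ ((c • Q : Sylow 2 C) : Subgroup C) := by
      rw [Sylow.coe_subgroup_smul]
      exact smul_mem_pointwise_smul _ (MulAut.conj c) _ (hQ (mem_subgroupOf.2 (subset_closure hv)))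
    rw [hc] at hm
    exact hm
  refine ⟨{
    t := t, S := S, ht := ht, htS := htS, htc := htc
    emb := (MulAut.conj (c : G)).toMonoidHom.comp emb0
    emb_inj := (MulAut.conj (c : G)).injective.comp hinj0
    emb_comm := fun a => ?_
    emb_ne := fun a h => ?_
    emb_mem := fun a => cent_le_normalizer t hct (hmem0 a)
    split := fun x hx => ?_
    hastd := hinS _ (by simp)
    hbstd := hinS _ (by simp) }, rfl⟩
  · exact hWt _ (cent_le_normalizer t hct (hmem0 a))
  · have h : (c : G) * emb0 a * (c : G)⁻¹ = t := h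
    refine hne0 a ?_
    calc emb0 a = (c : G)⁻¹ * ((c : G) * emb0 a * (c : G)⁻¹) * c := by group
      _ = t := by rw [h, mul_assoc, ← hct]; group
  · have hcinv : (c : G)⁻¹ * t = t * (c : G)⁻¹ := (Commute.inv_left hct).eq
    obtain ⟨a, ha⟩ := hsplit0 _ (cent_le_normalizer t hcinv hx)
    refine ⟨a, ?_⟩
    show x = (c : G) * emb0 a * (c : G)⁻¹ ∨ x = t * ((c : G) * emb0 a * (c : G)⁻¹)
    rw [inv_inv] at ha
    rcases ha with ha | ha
    · left; rw [← ha]; group
    · right
      rw [show t * ((c : G) * emb0 a * (c : G)⁻¹) = t * (c : G) * emb0 a * (c : G)⁻¹ by group, ← hct,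
        mul_assoc (c : G) t, ← ha]
      group

end Cfsg.Agent.Lead.JankoClosure
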