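import Cfsg.Agent.Lib.Lie.JankoSpectrum
import Cfsg.Agent.Lib.Lie.JankoCard
import Mathlib.GroupTheory.SpecificGroups.ZGroup

/-!
# `J₁` has no subgroup of odd order divisible by 209
-/

set_option autoImplicit false
set_option linter.style.haveILetI false

namespace Cfsg.Agent.Lead.JankoClosure

open Subgroup Cfsg.Spor

/-- An element of prime order not dividing the order of `Aut C` centralizes the cyclic normal subgroup `C`. -/
theorem comm_cyclic_normal {X : Type*} [Group X] [Finite X] (C : Subgroup X) [C.Normal] [IsCyclic C]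
    {p : ℕ} (hp : p.Prime) (hd : ¬ p ∣ (Nat.card C).totient) {x : X} (hx : orderOf x = p) {c : X}
    (hc : c ∈ C) : x * c = c * x := by
  have h1 : orderOf (MulAut.conjNormal x : MulAut C) ∣ p := hx ▸ orderOf_map_dvd _ x
  have h2 : orderOf (MulAut.conjNormal x : MulAut C) ∣ (Nat.card C).totient := by
    rw [← IsCyclic.card_mulAut]; exact orderOf_dvd_natCard _
  rcases (Nat.dvd_prime hp).1 h1 with h | h
  · rw [orderOf_eq_one_iff] at h
    have := congrArg Subtype.val (DFunLike.congr_fun h (⟨c, hc⟩ : C))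
    rw [MulAut.conjNormal_apply] at this
    exact mul_inv_eq_iff_eq_mul.1 this
  · exact absurd (h ▸ h2) hd

theorem no_odd_subgroup (L : Subgroup J1) (hodd : Odd (Nat.card L)) : ¬ (11 ∣ Nat.card L ∧ 19 ∣ Nat.card L) := by
  rintro ⟨h11, h19⟩
  haveI : Fact (Nat.Prime 11) := ⟨by norm_num⟩
  haveI : Fact (Nat.Prime 19) := ⟨by norm_num⟩
  haveI : Finite J1 := Nat.finite_of_card_ne_zero (by rw [Cfsg.Agent.Lie.Janko.card_eq]; norm_num)
  have hd : Nat.card L ∣ 21945 := by
    have h := card_subgroup_dvd_card L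
    rw [Cfsg.Agent.Lie.Janko.card_eq, show (175560 : ℕ) = 2 ^ 3 * 21945 by norm_num] at h
    exact ((Nat.coprime_two_right.2 hodd).pow_right 3).dvd_of_dvd_mul_left h
  haveI : IsZGroup L := IsZGroup.of_squarefree (Squarefree.squarefree_of_dvd hd (by
    rw [show (21945 : ℕ) = 3 * 5 * 7 * 11 * 19 by norm_num]
    simp only [Nat.squarefree_mul_iff]
    norm_num
    refine ⟨⟨⟨⟨?_, ?_⟩, ?_⟩, ?_⟩, ?_⟩ <;> exact (Nat.prime_iff.1 (by norm_num)).squarefree))
  set C := _root_.commutator L
  haveI : IsCyclic C := IsZGroup.isCyclic_commutator L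
  have htot : ∀ d, d ∣ 21945 → d.totient ∣ 8640 := by
    intro d hd
    refine (Nat.totient_dvd_of_dvd hd).trans ?_
    rw [show (21945 : ℕ) = 3 * 5 * 7 * 11 * 19 by norm_num, Nat.totient_mul (by norm_num),
      Nat.totient_mul (by norm_num), Nat.totient_mul (by norm_num), Nat.totient_mul (by norm_num),
      Nat.totient_prime (by norm_num), Nat.totient_prime (by norm_num), Nat.totient_prime (by norm_num),
      Nat.totient_prime (by norm_num), Nat.totient_prime (by norm_num)]
  have hCd : Nat.card C ∣ 21945 := (card_subgroup_dvd_card C).trans hd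
  have hnd : ∀ p, p = 11 ∨ p = 19 → ¬ p ∣ (Nat.card C).totient := by
    intro p hp h
    have := h.trans (htot _ hCd)
    rcases hp with rfl | rfl <;> norm_num at this
  obtain ⟨y, hy⟩ := exists_prime_orderOf_dvd_card' (G := L) 11 h11
  obtain ⟨x, hx⟩ := exists_prime_orderOf_dvd_card' (G := L) 19 h19
  have hxC := fun {c : L} (hc : c ∈ C) => comm_cyclic_normal C (by norm_num) (hnd 19 (Or.inr rfl)) hx hc
  have hyC := fun {c : L} (hc : c ∈ C) => comm_cyclic_normal C (by norm_num) (hnd 11 (Or.inl rfl)) hy hc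
  set c := x * y * x⁻¹ * y⁻¹ with hc
  have hcC : c ∈ C := commutator_mem_commutator (mem_top x) (mem_top y)
  -- the commutator is central for both
  have key : ∀ n : ℕ, x ^ n * y = c ^ n * y * x ^ n := by
    intro n
    induction n with
    | zero => simp
    | succ n ih =>
      calc x ^ (n + 1) * y = x * (x ^ n * y) := by rw [pow_succ', mul_assoc]
        _ = x * c ^ n * y * x ^ n := by rw [ih]; group
        _ = c ^ n * (x * y) * x ^ n := by rw [hxC (pow_mem hcC n)]; group
        _ = c ^ (n + 1) * y * x ^ (n + 1) := by rw [pow_succ c, hc]; group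
  have h19' : c ^ 19 = 1 := by
    have := key 19
    rw [show x ^ 19 = 1 from orderOf_dvd_iff_pow_eq_one.1 hx.dvd, one_mul, mul_one] at this
    exact mul_eq_right.1 this.symm
  have key' : ∀ n : ℕ, x * y ^ n = c ^ n * y ^ n * x := by
    intro n
    induction n with
    | zero => simp
    | succ n ih =>
      calc x * y ^ (n + 1) = x * y ^ n * y := by rw [pow_succ, mul_assoc]
        _ = c ^ n * y ^ n * (x * y) := by rw [ih]; group
        _ = c ^ n * (y ^ n * c) * y * x := by rw [hc]; group
        _ = c ^ (n + 1) * y ^ (n + 1) * x := by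
          rw [(Commute.pow_left (hyC hcC : Commute y c) n).eq, pow_succ, pow_succ]; group
  have h11' : c ^ 11 = 1 := by
    have := key' 11
    rw [show y ^ 11 = 1 from orderOf_dvd_iff_pow_eq_one.1 hy.dvd, mul_one, mul_one] at this
    exact mul_eq_right.1 this.symm
  have hc1 : c = 1 := orderOf_eq_one_iff.1 (Nat.eq_one_of_dvd_coprimes (by norm_num : Nat.Coprime 19 11)
    (orderOf_dvd_of_pow_eq_one h19') (orderOf_dvd_of_pow_eq_one h11'))
  have hcomm : Commute x y := by
    rw [hc, mul_inv_eq_one] at hc1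
    exact mul_inv_eq_iff_eq_mul.1 hc1
  have ho : orderOf ((x * y : L) : J1) = 209 := by
    rw [orderOf_coe, hcomm.orderOf_mul_eq_mul_orderOf_of_coprime (by rw [hx, hy]; norm_num), hx, hy]
  have := Set.mem_range_self (f := (orderOf : J1 → ℕ)) ((x * y : L) : J1)
  rw [Cfsg.Agent.Lie.Janko.range_orderOf, ho] at this
  simp at this

end Cfsg.Agent.Lead.JankoClosure
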