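import Cfsg.Agent.Lib.Lead.JankoClosure.Global
import Cfsg.Agent.Lib.Lead.JankoClosure.Make
import Cfsg.Agent.Lib.Lead.JankoClosure.Odd
import Cfsg.Agent.S0215
import Cfsg.Agent.Lib.Solv.ExtremelyClosed
import Cfsg.Agent.Lib.Fusion.StronglyEmbeddedPairs

/-!
# The induction
-/

set_option autoImplicit false
set_option linter.style.haveILetI false

namespace Cfsg.Agent.Lead.JankoClosure

open Subgroup Cfsg
open scoped commutatorElement
open Cfsg.Agent.Fusion

universe u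

variable {G : Type u} [Group G] [Finite G]

/-- The statement proved by induction. -/
def Good (G : Type u) [Group G] [Finite G] : Prop :=
  ∀ t : G, Hyp t → Spor.IsoJ1 ↥(normalClosure ({t} : Set G))

omit [Finite G] in
theorem commutator_mul_central {a b x y : G} (hxb : Commute x b) (hxy : Commute x y) (hya : Commute y a) :
    ⁅a * x, b * y⁆ = ⁅a, b⁆ := by
  simp only [commutatorElement_def]
  calc a * x * (b * y) * (a * x)⁻¹ * (b * y)⁻¹
      = a * (x * (b * y)) * x⁻¹ * a⁻¹ * y⁻¹ * b⁻¹ := by group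
    _ = a * (b * y * x) * x⁻¹ * a⁻¹ * y⁻¹ * b⁻¹ := by rw [(hxb.mul_right hxy).eq]
    _ = a * b * (y * a⁻¹) * y⁻¹ * b⁻¹ := by group
    _ = a * b * (a⁻¹ * y) * y⁻¹ * b⁻¹ := by rw [hya.inv_right.eq]
    _ = a * b * a⁻¹ * b⁻¹ := by group

namespace WCtx

variable (D : WCtx G)

theorem normalClosure_eq (hN : D.M.Normal) : normalClosure ({D.t} : Set G) = D.M := by
  haveI := D.M_simple
  have hle : normalClosure ({D.t} : Set G) ≤ D.M :=
    normalClosure_le_normal (Set.singleton_subset_iff.2 D.t_mem_M)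
  refine le_antisymm hle fun m hm => ?_
  haveI : ((normalClosure ({D.t} : Set G)).subgroupOf D.M).Normal := inferInstance
  rcases IsSimpleGroup.eq_bot_or_eq_top_of_normal _ this with h | h
  · exfalso
    have ht : (⟨D.t, D.t_mem_M⟩ : D.M) ∈ (normalClosure ({D.t} : Set G)).subgroupOf D.M :=
      mem_subgroupOf.2 (subset_normalClosure rfl)
    rw [h, mem_bot] at ht
    exact D.t_ne (congrArg Subtype.val ht)
  · exact subgroupOf_eq_top.1 h hm

theorem W_eq : D.W = closure (conjComm D.t) := rfl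

/-- The centralizer of an involution of `Q` lies in the block. -/
theorem cent_Q_le (IH : ∀ (Y : Type u) [Group Y] [Finite Y], Nat.card Y < Nat.card G → Good Y)
    (e : ↥(closure (conjComm D.t)) ≃* Multiplicative (ZMod 2) × A5)
    {q : G} (hq : q ∈ D.Q) (hq2 : q * q = 1) (hq1 : q ≠ 1) {g : G} (hg : g * q = q * g) : g ∈ D.G0 := by
  haveI : Fact (Nat.Prime 2) := ⟨Nat.prime_two⟩
  set X := centralizer ({q} : Set G)
  have hMX : D.M ≤ X := fun m hm => mem_centralizer_singleton_iff.2 (D.Q_comm_M hm hq)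
  have hqX : q ∈ X := mem_centralizer_singleton_iff.2 rfl
  set Z := zpowers (⟨q, hqX⟩ : X)
  have hqmem : ∀ x : X, x ∈ Z → (x : G) = 1 ∨ (x : G) = q := by
    rintro x ⟨i, rfl⟩
    show (((⟨q, hqX⟩ : X) ^ i : X) : G) = 1 ∨ _
    rw [SubgroupClass.coe_zpow]
    rcases Int.even_or_odd' i with ⟨l, rfl | rfl⟩
    · left; rw [zpow_mul, show q ^ (2 : ℤ) = 1 by rw [zpow_two, hq2], one_zpow]
    · right; rw [zpow_add, zpow_mul, show q ^ (2 : ℤ) = 1 by rw [zpow_two, hq2], one_zpow, one_mul, zpow_one]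
  haveI hZn : Z.Normal := ⟨fun z hz x => by
    have : x * z * x⁻¹ = z := Subtype.ext (by
      rcases hqmem z hz with h | h
      · show (x : G) * z * (x : G)⁻¹ = z; rw [h, mul_one, mul_inv_cancel]
      · show (x : G) * z * (x : G)⁻¹ = z
        rw [h, mem_centralizer_singleton_iff.1 x.2, mul_inv_cancel_right])
    rwa [this]⟩
  let π : X →* X ⧸ Z := QuotientGroup.mk' Z
  have hπ : Function.Surjective π := QuotientGroup.mk'_surjective Z
  set t' : X := ⟨D.t, hMX D.t_mem_M⟩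
  have hMker : ∀ x : X, π x = 1 → (x : G) ∈ D.M → x = 1 := fun x hx hxM => by
    rcases hqmem x ((QuotientGroup.eq_one_iff x).1 hx) with h | h
    · exact Subtype.ext h
    · exact absurd (D.MQ (h ▸ hxM) hq) hq1
  have hcard : Nat.card (X ⧸ Z) < Nat.card G := by
    have h1 := card_eq_card_quotient_mul_card_subgroup Z
    have h2 : Nat.card X ≤ Nat.card G := Nat.card_le_card_of_injective _ Subtype.val_injective
    have h3 : Nat.card Z = 2 := by
      rw [Nat.card_zpowers, orderOf_eq_prime (by rw [pow_two]; exact Subtype.ext hq2)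
        fun h => hq1 (congrArg Subtype.val h)]
    have h4 : 0 < Nat.card (X ⧸ Z) := Nat.card_pos
    rw [h3] at h1
    omega
  -- the involution and its Sylow subgroup
  have ht2 : orderOf (π t') = 2 := orderOf_eq_prime
    (by rw [pow_two, ← map_mul, show t' * t' = 1 from Subtype.ext D.sq_t, map_one])
    fun h => D.t_ne (congrArg Subtype.val (hMker t' h D.t_mem_M))
  obtain ⟨T, hT, hTX, hT0, hET, hTi⟩ := D.exists_sylow (X := X) fun x hx => hMX (D.E_le_M hx)
  let TS : Sylow 2 X := (hT.of_equiv (subgroupOfEquivOfLe hTX).symm).toSylow hTi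
  -- the conjugates commuting modulo the centre
  have hconj : ∀ (x : X), π (x * t' * x⁻¹) * π t' = π t' * π (x * t' * x⁻¹) →
      (x : G) * D.t * (x : G)⁻¹ ∈ D.W := by
    intro x hx
    set y := x * t' * x⁻¹
    have hz : π (t' * (y * t' * y⁻¹)) = 1 := by
      rw [map_mul, map_mul, map_mul, map_inv, hx, mul_inv_cancel_right, ← map_mul,
        show t' * t' = 1 from Subtype.ext D.sq_t, map_one]
    refine D.mem_W_of_comm ⟨_, rfl⟩ ?_
    rcases hqmem _ ((QuotientGroup.eq_one_iff _).1 hz) with h | h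
    · have h : D.t * ((y : G) * D.t * (y : G)⁻¹) = 1 := h
      have h' : (y : G) * D.t * (y : G)⁻¹ = D.t := by
        rw [eq_inv_of_mul_eq_one_right h, inv_eq_of_mul_eq_one_right D.sq_t]
      exact mul_inv_eq_iff_eq_mul.1 h'
    · exfalso
      have h : D.t * ((y : G) * D.t * (y : G)⁻¹) = q := h
      have h' : (y : G) * D.t * (y : G)⁻¹ = D.t * q := by
        rw [← h, ← mul_assoc, D.sq_t, one_mul]
      have hc : D.t * q * D.t = D.t * (D.t * q) := by
        rw [mul_assoc, ← D.W_comm_Q D.t_mem_W hq]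
      have hW := D.mem_W_of_comm ⟨(y : G), h'⟩ hc
      exact hq1 (D.W_Q ((D.W.mul_mem_cancel_left D.t_mem_W).1 hW) hq)
  set W' := D.W.subgroupOf X
  have hWX : D.W ≤ X := fun w hw => hMX (D.W_le_M hw)
  have hclosure : closure (conjComm (π t')) = W'.map π := by
    refine le_antisymm ((closure_le _).2 ?_) ?_
    · rintro _ ⟨g, rfl, hg⟩
      obtain ⟨x, rfl⟩ := hπ g
      refine ⟨x * t' * x⁻¹, mem_subgroupOf.2 ?_, by simp only [map_mul, map_inv]⟩
      refine hconj x ?_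
      simpa only [map_mul, map_inv] using hg
    · rintro _ ⟨w, hw, rfl⟩
      have hgen : D.W ≤ ((closure (conjComm (π t'))).comap π).map X.subtype := by
        refine (closure_le _).2 ?_
        rintro v ⟨g, rfl, hv⟩
        have hvW : g * D.t * g⁻¹ ∈ D.W := subset_closure ⟨g, rfl, hv⟩
        obtain ⟨m, hm, he⟩ := D.M_involution (D.W_le_M hvW) (D.InD_sq ⟨g, rfl⟩) (D.InD_ne ⟨g, rfl⟩)
        refine ⟨⟨g * D.t * g⁻¹, hWX hvW⟩, mem_comap.2 (subset_closure ⟨π ⟨m, hMX hm⟩, ?_, ?_⟩), rfl⟩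
        · rw [← map_inv, ← map_mul, ← map_mul]
          exact congrArg π (Subtype.ext he.symm)
        · rw [← map_mul, ← map_mul]
          exact congrArg π (Subtype.ext hv)
      obtain ⟨z, hz, hzw⟩ := hgen (mem_subgroupOf.1 hw)
      rw [← (Subtype.ext hzw : z = w)]
      exact mem_comap.1 hz
  have hWinj : Function.Injective (π.domRestrict W') := by
    rw [injective_iff_map_eq_one]
    intro w hw
    exact Subtype.ext (hMker w hw (D.W_le_M (mem_subgroupOf.1 w.2)))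
  have hrange : (π.domRestrict W').range = W'.map π := by
    ext z
    constructor
    · rintro ⟨w, rfl⟩; exact ⟨w, w.2, rfl⟩
    · rintro ⟨w, hw, rfl⟩; exact ⟨⟨w, hw⟩, rfl⟩
  have hyp : Hyp (π t') := by
    refine ⟨ht2, ⟨TS.mapSurjective hπ, ⟨t', mem_subgroupOf.2 (hET D.t_mem_E), rfl⟩, ?_⟩, ⟨?_⟩⟩
    · rintro _ ⟨s, hs, rfl⟩
      rw [← map_mul, ← map_mul]
      exact congrArg π (Subtype.ext (D.CE_comm_t ((D.two_facts hT hT0 hET).1 (mem_subgroupOf.1 hs))))
    · exact (MulEquiv.subgroupCongr (hclosure.trans hrange.symm)).trans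
        ((MonoidHom.ofInjective hWinj).symm.trans ((subgroupOfEquivOfLe hWX).trans e))
  obtain ⟨ψ⟩ := IH (X ⧸ Z) hcard (π t') hyp
  -- the image of `M`
  set N := normalClosure ({π t'} : Set (X ⧸ Z))
  set M' := D.M.subgroupOf X
  haveI := D.M_simple
  have hM'N : M'.map π ≤ N := by
    have hle : D.M ≤ ((N.comap π).map X.subtype) := by
      haveI : (((N.comap π).map X.subtype).subgroupOf D.M).Normal := ⟨by
        rintro n hn m
        obtain ⟨z, hz, hzn⟩ := mem_subgroupOf.1 hn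
        refine mem_subgroupOf.2 ⟨⟨m, hMX m.2⟩ * z * ⟨m, hMX m.2⟩⁻¹,
          (inferInstance : (N.comap π).Normal).conj_mem z hz _, ?_⟩
        have hzn : (z : G) = ((n : D.M) : G) := hzn
        show (m : G) * (z : G) * (m : G)⁻¹ = (m : G) * (n : G) * (m : G)⁻¹
        rw [hzn]⟩
      rcases IsSimpleGroup.eq_bot_or_eq_top_of_normal _ this with h | h
      · exfalso
        have ht : (⟨D.t, D.t_mem_M⟩ : D.M) ∈ ((N.comap π).map X.subtype).subgroupOf D.M :=
          mem_subgroupOf.2 ⟨t', mem_comap.2 (subset_normalClosure rfl), rfl⟩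
        rw [h, mem_bot] at ht
        exact D.t_ne (congrArg Subtype.val ht)
      · exact subgroupOf_eq_top.1 h
    rintro _ ⟨m, hm, rfl⟩
    obtain ⟨z, hz, hzm⟩ := hle (mem_subgroupOf.1 hm)
    rw [← (Subtype.ext hzm : z = m)]
    exact hz
  have hcardM : Nat.card (M'.map π) = 175560 := by
    have hinj : Function.Injective (π.domRestrict M') := by
      rw [injective_iff_map_eq_one]
      intro m hm
      exact Subtype.ext (hMker m hm (mem_subgroupOf.1 m.2))
    have hr : (π.domRestrict M').range = M'.map π := by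
      ext z
      constructor
      · rintro ⟨w, rfl⟩; exact ⟨w, w.2, rfl⟩
      · rintro ⟨w, hw, rfl⟩; exact ⟨⟨w, hw⟩, rfl⟩
    rw [← hr, ← Nat.card_congr (MonoidHom.ofInjective hinj).toEquiv,
      Nat.card_congr (subgroupOfEquivOfLe hMX).toEquiv, D.card_M]
  have hNM : M'.map π = N := eq_of_le_of_card_ge hM'N (by
    rw [hcardM, Nat.card_congr ψ.toEquiv, Cfsg.Agent.Lie.Janko.card_eq])
  set g' : X := ⟨g, mem_centralizer_singleton_iff.2 hg⟩
  have hmod : ∀ m ∈ D.M, ∃ m' ∈ D.M, g * m * g⁻¹ = m' ∨ g * m * g⁻¹ = m' * q := by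
    intro m hm
    have hgm : π (g' * ⟨m, hMX hm⟩ * g'⁻¹) ∈ M'.map π := by
      rw [hNM, map_mul, map_mul, map_inv]
      exact (normalClosure_normal).conj_mem _ (hNM.le (mem_map_of_mem π (mem_subgroupOf.2 hm))) _
    obtain ⟨m', hm', he⟩ := hgm
    refine ⟨m', mem_subgroupOf.1 hm', ?_⟩
    have h := (QuotientGroup.eq (s := Z)).1 he
    rcases hqmem _ h with h | h
    · left
      have h : (m' : G)⁻¹ * (g * m * g⁻¹) = 1 := h
      exact (inv_mul_eq_one.1 h).symm
    · right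
      have h : (m' : G)⁻¹ * (g * m * g⁻¹) = q := h
      rw [← h, mul_inv_cancel_left]
  refine D.normalizer_M_le fun m hm => ?_
  have hperf : (⟨m, hm⟩ : D.M) ∈ _root_.commutator D.M := by rw [D.M_perfect]; exact mem_top _
  have hle : _root_.commutator D.M ≤ (D.M.comap (MulAut.conj g).toMonoidHom).subgroupOf D.M := by
    rw [_root_.commutator_def, commutator_le]
    rintro a - b -
    refine mem_subgroupOf.2 (mem_comap.2 ?_)
    show g * ((⁅a, b⁆ : D.M) : G) * g⁻¹ ∈ D.M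
    rw [show g * ((⁅a, b⁆ : D.M) : G) * g⁻¹ = ⁅g * (a : G) * g⁻¹, g * (b : G) * g⁻¹⁆ by
      simp only [commutatorElement_def, coe_mul, coe_inv]; group]
    obtain ⟨a', ha', ea⟩ := hmod _ a.2
    obtain ⟨b', hb', eb⟩ := hmod _ b.2
    have qa : a' * q = q * a' := D.Q_comm_M ha' hq
    have qb : b' * q = q * b' := D.Q_comm_M hb' hq
    have hqi : q⁻¹ = q := inv_eq_of_mul_eq_one_right hq2
    have key : ⁅g * (a : G) * g⁻¹, g * (b : G) * g⁻¹⁆ = ⁅a', b'⁆ := by
      have hqc : ∀ x : G, x = 1 ∨ x = q → Commute x a' ∧ Commute x b' ∧ Commute x q := by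
        rintro x (rfl | rfl)
        · exact ⟨Commute.one_left _, Commute.one_left _, Commute.one_left _⟩
        · exact ⟨qa.symm, qb.symm, Commute.refl _⟩
      obtain ⟨x, hx, ea⟩ : ∃ x, (x = 1 ∨ x = q) ∧ g * (a : G) * g⁻¹ = a' * x := ea.elim
        (fun e => ⟨1, .inl rfl, by rw [e, mul_one]⟩) (fun e => ⟨q, .inr rfl, e⟩)
      obtain ⟨y, hy, eb⟩ : ∃ y, (y = 1 ∨ y = q) ∧ g * (b : G) * g⁻¹ = b' * y := eb.elim
        (fun e => ⟨1, .inl rfl, by rw [e, mul_one]⟩) (fun e => ⟨q, .inr rfl, e⟩)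
      obtain ⟨-, hxb, hxq⟩ := hqc x hx
      obtain ⟨hya, -, -⟩ := hqc y hy
      have hxy : Commute x y := by
        rcases hy with rfl | rfl
        · exact Commute.one_right _
        · exact hxq
      rw [ea, eb]
      exact commutator_mul_central hxb hxy hya
    rw [key, commutatorElement_def]
    exact D.M.mul_mem (D.M.mul_mem (D.M.mul_mem ha' hb') (D.M.inv_mem ha')) (D.M.inv_mem hb')
  exact mem_comap.1 (mem_subgroupOf.1 (hle hperf))

/-- The centralizer of the product of `t` with an involution of `Q` lies in the block. -/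
theorem cent_tq_le {q : G} (hq : q ∈ D.Q) {g : G} (hg : g * (D.t * q) = D.t * q * g) : g ∈ D.G0 := by
  haveI : Fact (Nat.Prime 2) := ⟨Nat.prime_two⟩
  set X := centralizer ({D.t * q} : Set G)
  have hXC : ∀ x ∈ X, x ∈ D.G0 → x * D.t = D.t * x := by
    rintro x hx ⟨m, hm, p, hp, rfl⟩
    have e := mem_centralizer_singleton_iff.1 hx
    have h1 : (D.t * m)⁻¹ * (m * D.t) = q * p * (p * q)⁻¹ := by
      have e' : m * D.t * (p * q) = D.t * m * (q * p) := by
        calc m * D.t * (p * q) = m * (D.t * p) * q := by group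
          _ = m * p * (D.t * q) := by rw [D.Q_comm_M D.t_mem_M hp]; group
          _ = D.t * (q * m) * p := by rw [e]; group
          _ = D.t * m * (q * p) := by rw [← D.Q_comm_M hm hq]; group
      calc (D.t * m)⁻¹ * (m * D.t) = (D.t * m)⁻¹ * (m * D.t * (p * q)) * (p * q)⁻¹ := by group
        _ = q * p * (p * q)⁻¹ := by rw [e']; group
    have h2 := D.MQ (mul_mem (inv_mem (mul_mem D.t_mem_M hm)) (mul_mem hm D.t_mem_M))
      (h1 ▸ mul_mem (mul_mem hq hp) (inv_mem (mul_mem hp hq)))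
    rw [inv_mul_eq_one] at h2
    calc m * p * D.t = m * (p * D.t) := mul_assoc _ _ _
      _ = m * D.t * p := by rw [← D.Q_comm_M D.t_mem_M hp]; group
      _ = D.t * (m * p) := by rw [← h2]; group
  have hEX : D.E ≤ X := fun x hx => mem_centralizer_singleton_iff.2 (by
    rw [← mul_assoc, D.comm_E hx D.t_mem_E, mul_assoc, D.Q_comm_M (D.E_le_M hx) hq, ← mul_assoc])
  obtain ⟨T, hT, hTX, hT0, hET, hTi⟩ := D.exists_sylow hEX
  obtain ⟨hTCE, hTD⟩ := D.two_facts hT hT0 hET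
  let TS : Sylow 2 X := (hT.of_equiv (subgroupOfEquivOfLe hTX).symm).toSylow hTi
  set t' : X := ⟨D.t, hEX D.t_mem_E⟩
  have hiso : ∀ x : X, x * t' * x⁻¹ ∈ TS → x * t' * x⁻¹ = t' := by
    intro x hx
    have hy : (x : G) * D.t * (x : G)⁻¹ ∈ D.E := hTD _ (mem_subgroupOf.1 hx) ⟨x, rfl⟩
    set R := X ⊓ D.G0
    have hTR : T ≤ R := le_inf hTX hT0
    have hle : D.E.map (MulAut.conj (x : G)⁻¹).toMonoidHom ≤ R := by
      rintro _ ⟨v, hv, rfl⟩
      refine ⟨X.mul_mem (X.mul_mem (X.inv_mem x.2) (hEX hv)) (X.inv_mem (X.inv_mem x.2)), D.cent_le_G0 ?_⟩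
      show (x : G)⁻¹ * v * (x : G)⁻¹⁻¹ * D.t = D.t * ((x : G)⁻¹ * v * (x : G)⁻¹⁻¹)
      have e := D.comm_E hv hy
      calc (x : G)⁻¹ * v * (x : G)⁻¹⁻¹ * D.t = (x : G)⁻¹ * (v * ((x : G) * D.t * (x : G)⁻¹)) * x := by group
        _ = (x : G)⁻¹ * (((x : G) * D.t * (x : G)⁻¹) * v) * x := by rw [e]
        _ = D.t * ((x : G)⁻¹ * v * (x : G)⁻¹⁻¹) := by group
    have hpT : IsPGroup 2 (T.subgroupOf R) := hT.of_equiv (subgroupOfEquivOfLe hTR).symm
    let TR : Sylow 2 R := hpT.toSylow (fun h => hTi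
      (h.trans (Dvd.intro _ (relIndex_mul_relIndex T R X hTR inf_le_left))))
    have hp : IsPGroup 2 ((D.E.map (MulAut.conj (x : G)⁻¹).toMonoidHom).subgroupOf R) :=
      (((D.S.2.to_le inf_le_left).map _).of_equiv (subgroupOfEquivOfLe hle).symm)
    obtain ⟨Q', hQ'⟩ := hp.exists_le_sylow
    obtain ⟨c, hc⟩ := MulAction.exists_smul_eq R Q' TR
    have hct : (c : G) * D.t = D.t * c := hXC c c.2.1 c.2.2
    have hn : (c : G) * (x : G)⁻¹ ∈ D.N := D.mem_N_of fun v hv => by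
      have hm : c * ⟨(x : G)⁻¹ * v * (x : G)⁻¹⁻¹, hle ⟨v, hv, rfl⟩⟩ * c⁻¹ ∈
          ((c • Q' : Sylow 2 R) : Subgroup R) := by
        rw [Sylow.coe_subgroup_smul]
        exact smul_mem_pointwise_smul _ (MulAut.conj c) _ (hQ' (mem_subgroupOf.2 ⟨v, hv, rfl⟩))
      rw [hc] at hm
      have hT' : (c : G) * (x : G)⁻¹ * v * ((c : G) * (x : G)⁻¹)⁻¹ ∈ T := by
        rw [show (c : G) * (x : G)⁻¹ * v * ((c : G) * (x : G)⁻¹)⁻¹ =
          (c : G) * ((x : G)⁻¹ * v * (x : G)⁻¹⁻¹) * (c : G)⁻¹ by group]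
        exact mem_subgroupOf.1 hm
      by_cases hv1 : v = 1
      · rw [hv1, mul_one, mul_inv_cancel]; exact one_mem _
      exact hTD _ hT' (D.InD_conj (D.E_ne_one_D hv hv1) _)
    have hnt := hXC _ (mul_mem c.2.1 (inv_mem x.2)) (D.N_le_G0 hn)
    have hxt : (x : G) * D.t = D.t * x := by
      calc (x : G) * D.t = ((c : G) * (x : G)⁻¹)⁻¹ * ((c : G) * D.t) := by group
        _ = ((c : G) * (x : G)⁻¹)⁻¹ * (D.t * ((c : G) * (x : G)⁻¹)) * x := by rw [hct]; group
        _ = D.t * x := by rw [← hnt]; group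
    exact Subtype.ext (show (x : G) * D.t * (x : G)⁻¹ = D.t by rw [hxt, mul_inv_cancel_right])
  have ho : orderOf t' = 2 := by rw [orderOf_mk, D.ht]
  obtain ⟨K, hK, hKodd, hKcomm⟩ := S0215.result TS t' ho (mem_subgroupOf.2 (hET D.t_mem_E)) hiso
  set g' : X := ⟨g, mem_centralizer_singleton_iff.2 hg⟩
  set a' : X := ⟨D.emb a0, hEX D.a_mem⟩
  set b' : X := ⟨D.emb b0, hEX D.b_mem⟩
  have hinvconj : ∀ {v : X}, v * v = 1 → ∀ o ∈ K, v * o * v ∈ K := fun {v} hv o ho => by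
    have := hK.conj_mem o ho v
    rwa [inv_eq_of_mul_eq_one_right hv] at this
  have ha2 : a' * a' = 1 := Subtype.ext (D.sq_E D.a_mem)
  have hb2 : b' * b' = 1 := Subtype.ext (D.sq_E D.b_mem)
  have hab : Commute a' b' := Subtype.ext (D.comm_E D.a_mem D.b_mem)
  obtain ⟨x, -, y, -, z, -, hx, hy, hz, he⟩ :=
    Solv.ExtClosed.decomp ha2 hb2 hab hKodd (hinvconj ha2) (hinvconj hb2) (hKcomm g')
  have hcent : ∀ {v : G}, v ∈ D.E → v ≠ 1 → ∀ w : G, v * w = w * v → w ∈ D.G0 := by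
    intro v hv hv1 w hw
    obtain ⟨n, hn, rfl⟩ := D.orbit hv hv1
    have h : n⁻¹ * w * n ∈ D.G0 := D.cent_le_G0 (by
      calc n⁻¹ * w * n * D.t = n⁻¹ * (w * (n * D.t * n⁻¹)) * n := by group
        _ = n⁻¹ * (n * D.t * n⁻¹ * w) * n := by rw [hw]
        _ = D.t * (n⁻¹ * w * n) := by group)
    have := mul_mem (mul_mem (D.N_le_G0 hn) h) (inv_mem (D.N_le_G0 hn))
    rwa [show n * (n⁻¹ * w * n) * n⁻¹ = w by group] at this
  have hne : ∀ v : A5, v ≠ 1 → D.emb v ≠ 1 := fun v hv e => hv (D.emb_inj (e.trans (map_one _).symm))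
  have hmem : (((t' * g' * t'⁻¹ * g'⁻¹ : X)) : G) ∈ D.G0 := by
    rw [he, coe_mul, coe_mul]
    refine mul_mem (mul_mem (hcent D.a_mem (hne _ (by decide)) _ (congrArg Subtype.val hx.eq))
      (hcent (mul_mem D.a_mem D.b_mem) ?_ _ (congrArg Subtype.val hy.eq)))
      (hcent D.b_mem (hne _ (by decide)) _ (congrArg Subtype.val hz.eq))
    rw [← map_mul]; exact hne _ (by decide)
  refine D.mem_G0_of_conj ?_
  have ht0 : D.t ∈ D.G0 := D.M_le_G0 D.t_mem_M
  have hmem : D.t * g * D.t⁻¹ * g⁻¹ ∈ D.G0 := hmem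
  have h := mul_mem (inv_mem ht0) hmem
  rwa [show D.t⁻¹ * (D.t * g * D.t⁻¹ * g⁻¹) = g * D.t⁻¹ * g⁻¹ by group,
    inv_eq_of_mul_eq_one_right D.sq_t] at h

theorem M_normal (IH : ∀ (Y : Type u) [Group Y] [Finite Y], Nat.card Y < Nat.card G → Good Y)
    (e : ↥(closure (conjComm D.t)) ≃* Multiplicative (ZMod 2) × A5) : D.M.Normal := by
  haveI : Fact (Nat.Prime 2) := ⟨Nat.prime_two⟩
  refine ⟨fun m hm g => D.G0_conj_M ?_ hm⟩
  suffices h : D.G0 = ⊤ by rw [h]; exact mem_top _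
  by_contra htop
  -- centralizers of the involutions of the block
  have hcent : ∀ x ∈ D.G0, x * x = 1 → x ≠ 1 → ∀ c : G, c * x = x * c → c ∈ D.G0 := by
    rintro x ⟨m, hm, q, hq, rfl⟩ hx2 hx1 c hc
    obtain ⟨hm2, hq2⟩ := D.decomp_sq hm hq hx2
    by_cases hm1 : m = 1
    · rw [hm1, one_mul] at hx1 hc
      exact D.cent_Q_le IH e hq hq2 hx1 hc
    obtain ⟨m0, hm0, he⟩ := D.M_involution hm hm2 hm1
    have hq0 : m0⁻¹ * q * m0 = q := by
      rw [D.Q_comm_M (inv_mem hm0) hq, inv_mul_cancel_right]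
    have hc' : m0⁻¹ * c * m0 * (D.t * q) = D.t * q * (m0⁻¹ * c * m0) := by
      have ex : m0⁻¹ * (m * q) * m0 = D.t * q := by
        rw [← he, show m0⁻¹ * (m0 * D.t * m0⁻¹ * q) * m0 = D.t * (m0⁻¹ * q * m0) by group, hq0]
      rw [← ex]
      calc m0⁻¹ * c * m0 * (m0⁻¹ * (m * q) * m0) = m0⁻¹ * (c * (m * q)) * m0 := by group
        _ = m0⁻¹ * (m * q * c) * m0 := by rw [hc]
        _ = m0⁻¹ * (m * q) * m0 * (m0⁻¹ * c * m0) := by group
    have := mul_mem (mul_mem (D.M_le_G0 hm0) (D.cent_tq_le hq hc')) (inv_mem (D.M_le_G0 hm0))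
    rwa [show m0 * (m0⁻¹ * c * m0) * m0⁻¹ = c by group] at this
  -- moving an involution of the block to the centralizer of `E`
  have hstd : ∀ x ∈ D.G0, x * x = 1 → x ≠ 1 → ∃ h ∈ D.G0, h * x * h⁻¹ ∈ D.CE := by
    rintro x ⟨m, hm, q, hq, rfl⟩ hx2 hx1
    obtain ⟨hm2, -⟩ := D.decomp_sq hm hq hx2
    have hqE : q ∈ D.CE := (D.mem_A.1 (D.Q_le_A hq)).1
    by_cases hm1 : m = 1
    · exact ⟨1, one_mem _, by simpa [hm1] using hqE⟩
    obtain ⟨m0, hm0, he⟩ := D.M_involution hm hm2 hm1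
    refine ⟨m0⁻¹, inv_mem (D.M_le_G0 hm0), ?_⟩
    rw [← he, show m0⁻¹ * (m0 * D.t * m0⁻¹ * q) * m0⁻¹⁻¹ = D.t * (m0⁻¹ * q * m0) by group,
      D.Q_comm_M (inv_mem hm0) hq, inv_mul_cancel_right]
    exact mul_mem (D.E_le_CE D.t_mem_E) hqE
  -- strong embedding
  have hmove : ∀ g x : G, x ∈ D.CE → x ∈ D.G0 → g * x * g⁻¹ ∈ D.CE → x * x = 1 → x ≠ 1 → g ∈ D.G0 := by
    intro g x hx hx0 hgx hx2 hx1
    set R := D.M ⊓ centralizer ({x} : Set G)
    have hER : D.E ≤ R := fun v hv =>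
      ⟨D.E_le_M hv, mem_centralizer_singleton_iff.2 (D.mem_CE.1 hx v hv).symm⟩
    have hle : D.E.map (MulAut.conj g⁻¹).toMonoidHom ≤ R := by
      rintro _ ⟨v, hv, rfl⟩
      show g⁻¹ * v * g⁻¹⁻¹ ∈ R
      have hc : g⁻¹ * v * g⁻¹⁻¹ * x = x * (g⁻¹ * v * g⁻¹⁻¹) := by
        calc g⁻¹ * v * g⁻¹⁻¹ * x = g⁻¹ * (v * (g * x * g⁻¹)) * g := by group
          _ = g⁻¹ * (g * x * g⁻¹ * v) * g := by rw [← D.mem_CE.1 hgx v hv]
          _ = x * (g⁻¹ * v * g⁻¹⁻¹) := by group
      refine ⟨?_, mem_centralizer_singleton_iff.2 hc⟩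
      by_cases hv1 : v = 1
      · rw [hv1]; simp
      exact D.InD_G0 (D.InD_conj (D.E_ne_one_D hv hv1) _) (hcent x hx0 hx2 hx1 _ hc)
    have hfac : Nat.card D.E = 2 ^ (Nat.card R).factorization 2 := by
      have h8 := card_dvd_of_le hER
      rw [D.card_E] at h8
      have h1 := card_dvd_of_le (inf_le_left : R ≤ D.M)
      rw [D.card_M] at h1
      have hR0 : Nat.card R ≠ 0 := Nat.card_pos.ne'
      have a1 : 3 ≤ (Nat.card R).factorization 2 :=
        (Nat.Prime.pow_dvd_iff_le_factorization Nat.prime_two hR0).1 h8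
      have a2 : (Nat.card R).factorization 2 ≤ 3 := by
        have := (Nat.factorization_le_iff_dvd hR0 (by norm_num : (175560 : ℕ) ≠ 0)).2 h1 2
        rwa [show (175560 : ℕ) = 2 ^ 3 * 21945 by norm_num, Nat.factorization_mul (by norm_num) (by norm_num),
          Finsupp.add_apply, Nat.Prime.factorization_pow Nat.prime_two, Finsupp.single_eq_same,
          Nat.factorization_eq_zero_of_not_dvd (show ¬ 2 ∣ 21945 by norm_num), add_zero] at this
      rw [D.card_E, show (Nat.card R).factorization 2 = 3 by omega]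
      rfl
    let P : Sylow 2 R := Sylow.ofCard (D.E.subgroupOf R) (by
      rw [Nat.card_congr (subgroupOfEquivOfLe hER).toEquiv, hfac])
    let P' : Sylow 2 R := Sylow.ofCard ((D.E.map (MulAut.conj g⁻¹).toMonoidHom).subgroupOf R) (by
      rw [Nat.card_congr (subgroupOfEquivOfLe hle).toEquiv,
        card_map_of_injective (MulAut.conj g⁻¹).injective, hfac])
    obtain ⟨c, hc⟩ := MulAction.exists_smul_eq R P' P
    have hn : (c : G) * g⁻¹ ∈ D.N := D.mem_N_of fun v hv => by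
      have hm : c * ⟨g⁻¹ * v * g⁻¹⁻¹, hle ⟨v, hv, rfl⟩⟩ * c⁻¹ ∈ ((c • P' : Sylow 2 R) : Subgroup R) := by
        rw [Sylow.coe_subgroup_smul]
        exact smul_mem_pointwise_smul _ (MulAut.conj c) _ (mem_subgroupOf.2 ⟨v, hv, rfl⟩)
      rw [hc] at hm
      rw [show (c : G) * g⁻¹ * v * ((c : G) * g⁻¹)⁻¹ = (c : G) * (g⁻¹ * v * g⁻¹⁻¹) * (c : G)⁻¹ by group]
      exact hm
    have := mul_mem (inv_mem (D.N_le_G0 hn)) (D.M_le_G0 c.2.1)
    rwa [show ((c : G) * g⁻¹)⁻¹ * c = g by group] at this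
  have hse : IsStronglyEmbedded D.G0 := by
    refine ⟨htop, ?_, fun g hg => ?_⟩
    · rw [even_iff_two_dvd, ← D.ht]
      have := orderOf_dvd_natCard (⟨D.t, D.M_le_G0 D.t_mem_M⟩ : D.G0)
      rwa [orderOf_mk] at this
    by_contra hodd
    rw [Nat.not_odd_iff_even, even_iff_two_dvd] at hodd
    obtain ⟨⟨s, hs0, x, hx0, hxs⟩, hso⟩ := exists_prime_orderOf_dvd_card' 2 hodd
    replace hso : orderOf s = 2 := (orderOf_coe _).trans hso
    have hxs : g * x * g⁻¹ = s := hxs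
    have hs2 := sq_of_order hso
    have hs1 : s ≠ 1 := fun e => by rw [e, orderOf_one] at hso; omega
    have hx2 : x * x = 1 := by
      calc x * x = g⁻¹ * (g * x * g⁻¹ * (g * x * g⁻¹)) * g := by group
        _ = 1 := by rw [hxs, hs2]; group
    have hx1 : x ≠ 1 := fun e => hs1 (by rw [← hxs, e]; group)
    obtain ⟨h, hh, hhx⟩ := hstd x hx0 hx2 hx1
    obtain ⟨l, hl, hls⟩ := hstd s hs0 hs2 hs1
    refine hg ?_
    have key : (l * g * h⁻¹) * (h * x * h⁻¹) * (l * g * h⁻¹)⁻¹ = l * s * l⁻¹ := by rw [← hxs]; group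
    have hmem := hmove (l * g * h⁻¹) _ hhx (mul_mem (mul_mem hh hx0) (inv_mem hh)) (key ▸ hls)
      (by rw [show h * x * h⁻¹ * (h * x * h⁻¹) = h * (x * x) * h⁻¹ by group, hx2]; group)
      (fun e => hx1 (by
        calc x = h⁻¹ * (h * x * h⁻¹) * h := by group
          _ = 1 := by rw [e]; group))
    have := mul_mem (mul_mem (inv_mem hl) hmem) hh
    rwa [show l⁻¹ * (l * g * h⁻¹) * h = g by group] at this
  -- `Q` has no involutions
  have hQodd : ∀ q ∈ D.Q, q * q = 1 → q = 1 := by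
    intro q hq hq2
    by_contra hq1
    obtain ⟨c, hc⟩ := isConj_iff.1 (SEPairs.involutions_conj hse D.ht
      (orderOf_eq_prime (by rw [pow_two, hq2]) hq1))
    exact hq1 (D.MQ (D.InD_G0 ⟨c, hc⟩ (D.Q_le_G0 hq)) hq)
  -- the stabilizer of two points
  set base : G ⧸ D.G0 := QuotientGroup.mk 1
  have hbase : ∀ x : G, x • base = base ↔ x ∈ D.G0 := fun x => by
    rw [SEPairs.smul_mk_eq_iff]; simp
  obtain ⟨p, hp⟩ := SEPairs.exists_ne hse base
  set K := MulAction.stabilizer G base ⊓ MulAction.stabilizer G p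
  have hKG0 : K ≤ D.G0 := fun x hx => (hbase x).1 hx.1
  have hKodd : ¬ 2 ∣ Nat.card K := by
    intro h
    obtain ⟨⟨z, hz⟩, hzo⟩ := exists_prime_orderOf_dvd_card' 2 h
    replace hzo : orderOf z = 2 := (orderOf_coe _).trans hzo
    exact hp (SEPairs.fixed_unique hse hzo hz.1 hz.2).symm
  -- the projection to `M`
  have hproj : ∀ x : D.G0, ∃ m : D.M, (m : G)⁻¹ * x ∈ D.Q := by
    rintro ⟨x, m, hm, q, hq, rfl⟩
    exact ⟨⟨m, hm⟩, by simpa using hq⟩
  choose f hf using hproj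
  have huniq : ∀ (x : D.G0) (m : D.M), (m : G)⁻¹ * x ∈ D.Q → f x = m := fun x m hm => by
    refine (Subtype.ext (inv_mul_eq_one.1 (D.MQ (mul_mem (inv_mem m.2) (f x).2) ?_))).symm
    have := mul_mem hm (inv_mem (hf x))
    rwa [show (m : G)⁻¹ * x * ((f x : G)⁻¹ * x)⁻¹ = (m : G)⁻¹ * (f x : G) by group] at this
  let π : D.G0 →* D.M := MonoidHom.mk' f fun x y => huniq _ _ (by
    have h1 := hf x
    have h2 := hf y
    have := mul_mem h1 h2
    rw [show ((f x * f y : D.M) : G)⁻¹ * ((x * y : D.G0) : G) =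
      (f y : G)⁻¹ * ((f x : G)⁻¹ * x) * (y : G) by simp only [coe_mul]; group,
      D.Q_comm_M (inv_mem (f y).2) h1]
    rwa [mul_assoc])
  obtain ⟨ψ⟩ := D.M_facts.1
  let F : K →* Spor.J1 := ψ.toMonoidHom.comp (π.comp (inclusion hKG0))
  have hLodd : Odd (Nat.card F.range) := by
    rw [← Nat.not_even_iff_odd, even_iff_two_dvd]
    exact fun h => hKodd (h.trans (card_range_dvd F))
  -- transitivity on the involutions
  set C := centralizer ({(⟨D.t, D.t_mem_M⟩ : D.M)} : Set D.M)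
  set L := (π.comp (inclusion hKG0)).range
  have htrans : ∀ m : D.M, ∃ l ∈ L, (l : D.M)⁻¹ * m ∈ C := by
    intro m
    have hs2 : orderOf ((m : G) * D.t * (m : G)⁻¹) = 2 := SEPairs.conj_involution D.ht m
    obtain ⟨d, hd1, hd2, hd⟩ := SEPairs.pair_transitive hse hp D.ht ((hbase _).2 (D.M_le_G0 D.t_mem_M)) hs2
      ((hbase _).2 (D.M_le_G0 (mul_mem (mul_mem m.2 D.t_mem_M) (inv_mem m.2))))
    have hdK : d ∈ K := ⟨hd1, hd2⟩
    refine ⟨_, ⟨⟨d, hdK⟩, rfl⟩, mem_centralizer_singleton_iff.2 (Subtype.ext ?_)⟩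
    set l : G := ((f ⟨d, hKG0 hdK⟩ : D.M) : G)
    have hl : l⁻¹ * d ∈ D.Q := hf ⟨d, hKG0 hdK⟩
    have hlt : l * D.t * l⁻¹ = (m : G) * D.t * (m : G)⁻¹ := by
      rw [← hd]
      calc l * D.t * l⁻¹ = l * ((l⁻¹ * d) * D.t * (l⁻¹ * d)⁻¹) * l⁻¹ := by
            rw [← D.Q_comm_M D.t_mem_M hl, mul_inv_cancel_right]
        _ = d * D.t * d⁻¹ := by group
    show l⁻¹ * (m : G) * D.t = D.t * (l⁻¹ * (m : G))
    calc l⁻¹ * (m : G) * D.t = l⁻¹ * ((m : G) * D.t * (m : G)⁻¹) * m := by group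
      _ = l⁻¹ * (l * D.t * l⁻¹) * m := by rw [hlt]
      _ = D.t * (l⁻¹ * (m : G)) := by group
  have hcardC : Nat.card C ≤ 120 := by
    rw [← D.card_W]
    refine Nat.card_le_card_of_injective (fun c : C => (⟨((c : D.M) : G), ?_⟩ : D.W)) fun a b h =>
      Subtype.ext (Subtype.ext (congrArg (fun z : D.W => (z : G)) h))
    have hct : ((c : D.M) : G) * D.t = D.t * ((c : D.M) : G) :=
      congrArg Subtype.val (mem_centralizer_singleton_iff.1 c.2)
    obtain ⟨w, hw, q, hq, e⟩ := D.cent_split hct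
    have hqM : q ∈ D.M := by
      have := mul_mem (inv_mem (D.W_le_M hw)) (c : D.M).2
      rwa [e, inv_mul_cancel_left] at this
    rw [e, D.MQ hqM hq, mul_one]; exact hw
  have hbig : 1463 ∣ Nat.card L := by
    haveI : Fintype (D.M ⧸ C) := Fintype.ofFinite _
    -- the cosets are covered by `L`
    let h : L → D.M ⧸ C := fun l => QuotientGroup.mk (l : D.M)
    have hs : Function.Surjective h := fun z => by
      obtain ⟨m, rfl⟩ := QuotientGroup.mk_surjective z
      obtain ⟨l, hl, hlm⟩ := htrans m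
      exact ⟨⟨l, hl⟩, QuotientGroup.eq.2 hlm⟩
    have hcount := JankoTwoAlt.card_eq_mul_of_fibres L (L ⊓ C) inf_le_left h (fun a b => by
      show QuotientGroup.mk (a : D.M) = QuotientGroup.mk (b : D.M) ↔ _
      rw [QuotientGroup.eq, mem_inf]
      exact ⟨fun hC => ⟨mul_mem (inv_mem a.2) b.2, hC⟩, fun hC => hC.2⟩) hs
    have hidx := C.card_mul_index
    rw [index_eq_card, D.card_M] at hidx
    have hd : 1463 ∣ Nat.card (D.M ⧸ C) := by
      have hW : D.W.subgroupOf D.M ≤ C := fun w hw =>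
        mem_centralizer_singleton_iff.2 (Subtype.ext (D.comm_W (mem_subgroupOf.1 hw)))
      have h120 : 120 ≤ Nat.card C := by
        rw [← D.card_W, ← Nat.card_congr (subgroupOfEquivOfLe (fun w hw => D.W_le_M hw : D.W ≤ D.M)).toEquiv]
        exact Nat.card_le_card_of_injective _ (inclusion_injective hW)
      rw [show Nat.card C = 120 by omega] at hidx
      exact ⟨1, by omega⟩
    exact hd.trans ⟨_, hcount⟩
  have hL : Nat.card F.range = Nat.card L := by
    rw [show F.range = L.map ψ.toMonoidHom from MonoidHom.range_comp _ _,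
      card_map_of_injective ψ.injective]
  exact no_odd_subgroup F.range hLodd ⟨hL ▸ dvd_trans (by norm_num) hbig, hL ▸ dvd_trans (by norm_num) hbig⟩

end WCtx

theorem good : ∀ (n : ℕ) (G : Type u) [Group G] [Finite G], Nat.card G = n → Good G := by
  intro n
  induction n using Nat.strong_induction_on with
  | _ n ih =>
  intro G _ _ hn t ht
  obtain ⟨e⟩ := ht.2.2
  obtain ⟨D, rfl⟩ := exists_ctx ht
  rw [D.normalClosure_eq (D.M_normal (fun Y _ _ hY => ih _ (hn ▸ hY) Y rfl) e)]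
  exact D.M_facts.1

end Cfsg.Agent.Lead.JankoClosure
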