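import Cfsg.Agent.Lib.Lead.JankoTwoAlt.Alt

/-!
# Standard generators of the alternating group of degree five
-/

set_option autoImplicit false
set_option maxRecDepth 100000
set_option synthInstance.maxSize 4000

namespace Cfsg.Agent.Lead.JankoClosure

open Equiv

abbrev A5 := alternatingGroup (Fin 5)

def a0 : A5 := ⟨swap 0 1 * swap 2 3, Equiv.Perm.mem_alternatingGroup.2 (by decide)⟩
def b0 : A5 := ⟨swap 0 2 * swap 1 3, Equiv.Perm.mem_alternatingGroup.2 (by decide)⟩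
def k0 : A5 := ⟨swap 2 3 * swap 1 2, Equiv.Perm.mem_alternatingGroup.2 (by decide)⟩
def c0 : A5 := ⟨swap 0 1 * swap 2 4, Equiv.Perm.mem_alternatingGroup.2 (by decide)⟩

/-- The list of elements of the point stabilizer. -/
def four : List A5 :=
  [1, a0, b0, a0 * b0, k0, k0 * a0, k0 * b0, k0 * (a0 * b0), k0 * k0, k0 * k0 * a0, k0 * k0 * b0,
    k0 * k0 * (a0 * b0)]

theorem basics : a0 ≠ 1 ∧ b0 ≠ 1 ∧ a0 ≠ b0 ∧ a0 * a0 = 1 ∧ b0 * b0 = 1 ∧ a0 * b0 = b0 * a0 ∧
    k0 * k0 * k0 = 1 ∧ k0 ≠ 1 ∧ c0 * c0 = 1 := by decide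

theorem k0_conj : (k0 * a0 * k0⁻¹ = b0 ∧ k0 * b0 * k0⁻¹ = a0 * b0) ∨
    (k0 * a0 * k0⁻¹ = a0 * b0 ∧ k0 * b0 * k0⁻¹ = a0) := by decide

theorem standard : ∀ a b : A5, a ≠ 1 → b ≠ 1 → a ≠ b → a * a = 1 → b * b = 1 → a * b = b * a →
    ∃ g : A5, (g * a0 * g⁻¹ = a ∧ g * b0 * g⁻¹ = b) ∨ (g * a0 * g⁻¹ = b ∧ g * b0 * g⁻¹ = a) := by decide +kernel

/-- An automorphism fixing the four group is conjugation by one of its elements. -/
theorem rigid : ∀ x : A5, x * x * x = 1 → x * a0 * x⁻¹ = k0 * a0 * k0⁻¹ → x * b0 * x⁻¹ = k0 * b0 * k0⁻¹ →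
    ∀ y : A5, y * y = 1 → ((y * x) * (y * x) * (y * x) = 1 ↔ (c0 * k0) * (c0 * k0) * (c0 * k0) = 1) →
    ((y * a0) * (y * a0) * (y * a0) = 1 ↔ (c0 * a0) * (c0 * a0) * (c0 * a0) = 1) →
    ((y * b0) * (y * b0) * (y * b0) = 1 ↔ (c0 * b0) * (c0 * b0) * (c0 * b0) = 1) →
    ((y * (x * a0)) * (y * (x * a0)) * (y * (x * a0)) = 1 ↔
      (c0 * (k0 * a0)) * (c0 * (k0 * a0)) * (c0 * (k0 * a0)) = 1) →
    ((y * (x * b0)) * (y * (x * b0)) * (y * (x * b0)) = 1 ↔
      (c0 * (k0 * b0)) * (c0 * (k0 * b0)) * (c0 * (k0 * b0)) = 1) →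
    ((y * x) * (y * x) = 1 ↔ (c0 * k0) * (c0 * k0) = 1) →
    ((y * a0) * (y * a0) = 1 ↔ (c0 * a0) * (c0 * a0) = 1) →
    ((y * b0) * (y * b0) = 1 ↔ (c0 * b0) * (c0 * b0) = 1) →
    y ≠ 1 → ∃ v ∈ [(1 : A5), a0, b0, a0 * b0], v * k0 * v⁻¹ = x ∧ v * c0 * v⁻¹ = y := by decide +kernel

theorem double_coset : ∀ x : A5, x ∈ four ∨ ∃ p ∈ four, ∃ q ∈ four, x = p * c0 * q := by decide +kernel

/-- A homomorphism fixing the four group agrees with conjugation by one of its elements. -/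
theorem rigid_hom (f : A5 →* A5) (hinj : Function.Injective f) (ha : f a0 = a0) (hb : f b0 = b0) :
    ∃ v : A5, (v = 1 ∨ v = a0 ∨ v = b0 ∨ v = a0 * b0) ∧ ∀ x, f x = v * x * v⁻¹ := by
  have eq1 : ∀ z : A5, f z = 1 ↔ z = 1 := fun z => map_eq_one_iff f hinj
  have h := rigid (f k0) (by rw [← map_mul, ← map_mul, basics.2.2.2.2.2.2.1, map_one])
    (by
      rcases k0_conj with ⟨h1, -⟩ | ⟨h1, -⟩ <;>
        · have e := congrArg f h1
          simp only [map_mul, map_inv, ha, hb] at e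
          rw [h1]; exact e)
    (by
      rcases k0_conj with ⟨-, h1⟩ | ⟨-, h1⟩ <;>
        · have e := congrArg f h1
          simp only [map_mul, map_inv, ha, hb] at e
          rw [h1]; exact e)
    (f c0) (by rw [← map_mul, basics.2.2.2.2.2.2.2.2, map_one])
    (by rw [← map_mul, ← map_mul, ← map_mul, eq1])
    (by conv_lhs => rw [← ha, ← map_mul, ← map_mul, ← map_mul, eq1])
    (by conv_lhs => rw [← hb, ← map_mul, ← map_mul, ← map_mul, eq1])
    (by conv_lhs => rw [← ha, ← map_mul, ← map_mul, ← map_mul, ← map_mul, eq1])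
    (by conv_lhs => rw [← hb, ← map_mul, ← map_mul, ← map_mul, ← map_mul, eq1])
    (by rw [← map_mul, ← map_mul, eq1])
    (by conv_lhs => rw [← ha, ← map_mul, ← map_mul, eq1])
    (by conv_lhs => rw [← hb, ← map_mul, ← map_mul, eq1])
    (fun e => by rw [eq1] at e; exact absurd e (by decide))
  obtain ⟨v, hv, h1, h2⟩ := h
  simp only [List.mem_cons, List.not_mem_nil, or_false] at hv
  refine ⟨v, hv, ?_⟩
  let g : A5 →* A5 := (MulAut.conj v).toMonoidHom
  have hg : ∀ x, g x = v * x * v⁻¹ := fun _ => rfl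
  have hc : ∀ x ∈ [a0, b0, k0, c0], f x = g x := by
    intro x hx
    simp only [List.mem_cons, List.not_mem_nil, or_false] at hx
    rcases hx with rfl | rfl | rfl | rfl
    · rw [ha, hg]; rcases hv with rfl | rfl | rfl | rfl <;> decide
    · rw [hb, hg]; rcases hv with rfl | rfl | rfl | rfl <;> decide
    · rw [hg, h1]
    · rw [hg, h2]
  have hfour : ∀ x ∈ four, f x = g x := by
    intro x hx
    simp only [four, List.mem_cons, List.not_mem_nil, or_false] at hx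
    rcases hx with rfl | rfl | rfl | rfl | rfl | rfl | rfl | rfl | rfl | rfl | rfl | rfl <;>
      simp only [map_mul, map_one, hc a0 (by simp), hc b0 (by simp), hc k0 (by simp)]
  intro x
  rw [← hg]
  rcases double_coset x with hx | ⟨p, hp, q, hq, rfl⟩
  · exact hfour x hx
  · simp only [map_mul, hfour p hp, hfour q hq, hc c0 (by simp)]

theorem squares : ∀ x : A5, ∃ a b : A5, x = a * a * (b * b) := by decide +kernel

theorem center_trivial : ∀ a : A5, (∀ x : A5, a * x = x * a) → a = 1 := by decide +kernel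

end Cfsg.Agent.Lead.JankoClosure
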