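import Cfsg.Agent.Lib.Lead.JankoClosure.Block
import Cfsg.Agent.Lib.Lie.JankoSimple
import Cfsg.Agent.Lib.Lie.JankoCard

/-!
# How the block sits in the group
-/

set_option autoImplicit false
set_option linter.style.haveILetI false

namespace Cfsg.Agent.Lead.JankoClosure

open Subgroup Cfsg

universe u

variable {G : Type u} [Group G] [Finite G]

namespace WCtx

variable (D : WCtx G)

theorem M_simple : IsSimpleGroup D.M := by
  obtain ⟨ψ⟩ := D.M_facts.1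
  haveI := Cfsg.Agent.Lie.Janko.isSimpleGroup_J1
  exact MulEquiv.isSimpleGroup ψ

theorem card_M : Nat.card D.M = 175560 := by
  obtain ⟨ψ⟩ := D.M_facts.1
  rw [Nat.card_congr ψ.toEquiv, Cfsg.Agent.Lie.Janko.card_eq]

theorem MQ {x : G} (hm : x ∈ D.M) (hq : x ∈ D.Q) : x = 1 := D.M_facts.2.1 x hm hq

theorem M_involution {x : G} (hx : x ∈ D.M) (h2 : x * x = 1) (h1 : x ≠ 1) :
    ∃ m ∈ D.M, m * D.t * m⁻¹ = x := D.M_facts.2.2 x hx h2 h1

theorem E_le_M {x : G} (hx : x ∈ D.E) : x ∈ D.M := D.W_le_M hx.2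

theorem decomp_sq {m q : G} (hm : m ∈ D.M) (hq : q ∈ D.Q) (h2 : m * q * (m * q) = 1) :
    m * m = 1 ∧ q * q = 1 := by
  have e : m * m = (q * q)⁻¹ := by
    rw [eq_inv_iff_mul_eq_one, ← h2, mul_assoc m m, ← mul_assoc m q q, D.Q_comm_M hm hq]
    simp only [mul_assoc]
    rw [← mul_assoc m q, D.Q_comm_M hm hq, mul_assoc]
  have h := D.MQ (mul_mem hm hm) (e ▸ inv_mem (mul_mem hq hq))
  refine ⟨h, ?_⟩
  rw [h] at e
  exact inv_eq_one.1 e.symm

/-- An element of order dividing a power of two splits into such elements. -/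
theorem decomp_pow {m q : G} (hm : m ∈ D.M) (hq : q ∈ D.Q) {n : ℕ} (h : (m * q) ^ n = 1) :
    m ^ n = 1 := by
  rw [(show Commute m q from D.Q_comm_M hm hq).mul_pow] at h
  refine D.MQ (pow_mem hm n) ?_
  rw [eq_inv_of_mul_eq_one_left h]
  exact inv_mem (pow_mem hq n)

theorem InD_G0 {x : G} (hx : D.InD x) (hx0 : x ∈ D.G0) : x ∈ D.M := by
  haveI : Fact (Nat.Prime 2) := ⟨Nat.prime_two⟩
  have hSle : (D.S : Subgroup G) ≤ D.G0 := fun s hs => D.cent_le_G0 (D.htc s hs)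
  have hp : IsPGroup 2 (zpowers (⟨x, hx0⟩ : D.G0)) := IsPGroup.of_card (n := 1) (by
    rw [Nat.card_zpowers, orderOf_mk,
      orderOf_eq_prime (by rw [pow_two, D.InD_sq hx]) (D.InD_ne hx), pow_one])
  obtain ⟨P, hP⟩ := hp.exists_le_sylow
  obtain ⟨g, hg⟩ := MulAction.exists_smul_eq D.G0 P (D.S.subtype hSle)
  have hm : g * ⟨x, hx0⟩ * g⁻¹ ∈ ((g • P : Sylow 2 D.G0) : Subgroup D.G0) := by
    rw [Sylow.coe_subgroup_smul]
    exact smul_mem_pointwise_smul _ (MulAut.conj g) _ (hP (mem_zpowers _))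
  rw [hg] at hm
  have hS : (g : G) * x * (g : G)⁻¹ ∈ (D.S : Subgroup G) := hm
  have hW := D.mem_W_of_comm (D.InD_conj hx g) (D.htc _ hS)
  have h := D.G0_conj_M (inv_mem g.2) (D.W_le_M hW)
  rwa [show (g : G)⁻¹ * ((g : G) * x * (g : G)⁻¹) * (g : G)⁻¹⁻¹ = x by group] at h

theorem mem_G0_of_conj {g : G} (hg : g * D.t * g⁻¹ ∈ D.G0) : g ∈ D.G0 := by
  have hD : D.InD (g * D.t * g⁻¹) := ⟨g, rfl⟩
  obtain ⟨m, hm, he⟩ := D.M_involution (D.InD_G0 hD hg) (D.InD_sq hD) (D.InD_ne hD)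
  have h : m⁻¹ * g ∈ D.G0 := D.cent_le_G0 (by
    calc m⁻¹ * g * D.t = m⁻¹ * (g * D.t * g⁻¹) * g := by group
      _ = D.t * (m⁻¹ * g) := by rw [← he]; group)
  simpa using mul_mem (D.M_le_G0 hm) h

theorem normalizer_M_le {g : G} (hg : ∀ m ∈ D.M, g * m * g⁻¹ ∈ D.M) : g ∈ D.G0 :=
  D.mem_G0_of_conj (D.M_le_G0 (hg _ D.t_mem_M))

/-- `E` is a Sylow subgroup of `M`. -/
theorem eq_E_of_two {T : Subgroup G} (hT : IsPGroup 2 T) (hTM : T ≤ D.M) (hET : D.E ≤ T) : T = D.E := by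
  haveI : Fact (Nat.Prime 2) := ⟨Nat.prime_two⟩
  obtain ⟨n, hn⟩ := IsPGroup.iff_card.1 hT
  have hd := card_dvd_of_le hTM
  rw [hn, D.card_M, show (175560 : ℕ) = 2 ^ 3 * 21945 by norm_num] at hd
  have h3 : n ≤ 3 := (Nat.pow_dvd_pow_iff_le_right (by norm_num)).1
    ((((Nat.prime_two.coprime_iff_not_dvd).2 (by norm_num : ¬ 2 ∣ 21945)).pow_left n).dvd_of_dvd_mul_right hd)
  refine (eq_of_le_of_card_ge hET ?_).symm
  rw [hn, D.card_E]
  exact (Nat.pow_le_pow_right (by norm_num) h3).trans (le_of_eq rfl)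

/-- A 2-subgroup of the block containing `E` centralizes `E`; its conjugates of `t` lie in `E`. -/
theorem two_facts {T : Subgroup G} (hT : IsPGroup 2 T) (hT0 : T ≤ D.G0) (hET : D.E ≤ T) :
    T ≤ D.CE ∧ ∀ x ∈ T, D.InD x → x ∈ D.E := by
  haveI : Fact (Nat.Prime 2) := ⟨Nat.prime_two⟩
  have hTM : T ⊓ D.M = D.E :=
    D.eq_E_of_two (hT.to_le inf_le_left) inf_le_right (le_inf hET fun x hx => D.E_le_M hx)
  refine ⟨fun x hx => ?_, fun x hx hD => hTM ▸ ⟨hx, D.InD_G0 hD (hT0 hx)⟩⟩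
  obtain ⟨m, hm, q, hq, rfl⟩ := hT0 hx
  have hqE : ∀ y ∈ D.E, q * y = y * q := fun y hy => (D.Q_comm_M (D.E_le_M hy) hq).symm
  have hN : m ∈ normalizer (D.E : Set G) := D.mem_N_of fun y hy => by
    have h1 : m * q * y * (m * q)⁻¹ ∈ T ⊓ D.M :=
      ⟨T.mul_mem (T.mul_mem hx (hET hy)) (T.inv_mem hx), D.G0_conj_M (hT0 hx) (D.E_le_M hy)⟩
    rw [hTM, show m * q * y * (m * q)⁻¹ = m * (q * y * q⁻¹) * m⁻¹ by group, hqE y hy,
      mul_inv_cancel_right] at h1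
    exact h1
  obtain ⟨n, hn⟩ := hT ⟨m * q, hx⟩
  have hmn : m ^ 2 ^ n = 1 := D.decomp_pow hm hq (by simpa using congrArg Subtype.val hn)
  obtain ⟨j, -, hj⟩ := (Nat.dvd_prime_pow Nat.prime_two).1 (orderOf_dvd_of_pow_eq_one hmn)
  have hp : IsPGroup 2 (zpowers m) := IsPGroup.of_card (n := j) (by rw [Nat.card_zpowers, hj])
  have hsup : zpowers m ⊔ D.E = D.E := D.eq_E_of_two
    (hp.to_sup_of_normal_right' (hK := D.S.2.to_le inf_le_left) (zpowers_le.2 hN))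
    (sup_le (zpowers_le.2 hm) fun y hy => D.E_le_M hy) le_sup_right
  have hmE : m ∈ D.E := hsup ▸ mem_sup_left (mem_zpowers m)
  refine D.mem_CE.2 fun y hy => ?_
  rw [mul_assoc, hqE y hy, ← mul_assoc, D.comm_E hmE hy, mul_assoc]

/-- A subgroup containing `E` has a Sylow subgroup inside the block and containing `E`. -/
theorem exists_sylow {X : Subgroup G} (hEX : D.E ≤ X) :
    ∃ T : Subgroup G, IsPGroup 2 T ∧ T ≤ X ∧ T ≤ D.G0 ∧ D.E ≤ T ∧ ¬ 2 ∣ T.relIndex X := by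
  haveI : Fact (Nat.Prime 2) := ⟨Nat.prime_two⟩
  have hE0 : D.E ≤ X ⊓ D.G0 := le_inf hEX fun x hx => D.M_le_G0 (D.E_le_M hx)
  have hpE : IsPGroup 2 (D.E.subgroupOf (X ⊓ D.G0)) :=
    (D.S.2.to_le inf_le_left).of_equiv (subgroupOfEquivOfLe hE0).symm
  obtain ⟨T0, hT0⟩ := hpE.exists_le_sylow
  set T := (T0 : Subgroup ↥(X ⊓ D.G0)).map (X ⊓ D.G0).subtype
  have hT : IsPGroup 2 T := T0.2.map _
  have hTle : T ≤ X ⊓ D.G0 := map_subtype_le _
  have hET : D.E ≤ T := fun x hx => ⟨⟨x, hE0 hx⟩, hT0 (mem_subgroupOf.2 hx), rfl⟩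
  refine ⟨T, hT, hTle.trans inf_le_left, hTle.trans inf_le_right, hET, ?_⟩
  have hpT : IsPGroup 2 (T.subgroupOf X) := hT.of_equiv (subgroupOfEquivOfLe (hTle.trans inf_le_left)).symm
  obtain ⟨P, hP⟩ := hpT.exists_le_sylow
  have heq : T.subgroupOf X = (P : Subgroup X) := by
    haveI : Group.IsNilpotent (P : Subgroup X) := P.2.isNilpotent
    by_contra hne
    set U := (T.subgroupOf X).subgroupOf (P : Subgroup X)
    have hU : U < ⊤ := lt_top_iff_ne_top.2 fun h => hne (le_antisymm hP (subgroupOf_eq_top.1 h))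
    obtain ⟨y, hy, hyU⟩ := SetLike.exists_of_lt (normalizerCondition_of_isNilpotent U hU)
    apply hyU
    set y' : G := ((y : X) : G)
    -- the normalizing element normalizes `E`
    have hyN : y' ∈ D.N := D.mem_N_of fun x hx => by
      have hxU : (⟨⟨x, hEX hx⟩, hP (mem_subgroupOf.2 (hET hx))⟩ : (P : Subgroup X)) ∈ U := hET hx
      have h := (mem_normalizer_iff.1 hy _).1 hxU
      have h' : y' * x * y'⁻¹ ∈ T := h
      by_cases hx1 : x = 1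
      · rw [hx1, mul_one, mul_inv_cancel]; exact one_mem _
      exact (D.two_facts hT (hTle.trans inf_le_right) hET).2 _ h' (D.InD_conj (D.E_ne_one_D hx hx1) _)
    have hy0 : y' ∈ X ⊓ D.G0 := ⟨(y : X).2, D.N_le_G0 hyN⟩
    -- it lies in a larger 2-subgroup of the block
    let B : Subgroup ↥(X ⊓ D.G0) :=
      ((P : Subgroup X).map X.subtype).subgroupOf (X ⊓ D.G0)
    have hB : IsPGroup 2 B := (P.2.map X.subtype).comap_of_injective (X ⊓ D.G0).subtype Subtype.val_injective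
    have hTB : (T0 : Subgroup ↥(X ⊓ D.G0)) ≤ B := fun z hz =>
      ⟨⟨z, z.2.1⟩, hP (mem_subgroupOf.2 ⟨z, hz, rfl⟩), rfl⟩
    have hBT := T0.3 hB hTB
    have : (⟨y', hy0⟩ : ↥(X ⊓ D.G0)) ∈ (T0 : Subgroup ↥(X ⊓ D.G0)) :=
      hBT ▸ (⟨(y : X), y.2, rfl⟩ : (⟨y', hy0⟩ : ↥(X ⊓ D.G0)) ∈ B)
    exact ⟨_, this, rfl⟩
  show ¬ 2 ∣ (T.subgroupOf X).index
  rw [heq]
  exact P.not_dvd_index

end WCtx

end Cfsg.Agent.Lead.JankoClosure
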