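import Cfsg.Agent.Lib.Lead.JankoClosure.Five
import Cfsg.Agent.Lib.Lead.JankoTwoAlt.Five
import Cfsg.Agent.Lib.Lead.JankoTwoAlt.Four
import Cfsg.Agent.Lib.Fusion.Basic
import Mathlib.GroupTheory.Subgroup.Centralizer

/-!
# A two-central involution whose weak closure in its centralizer is `Z₂ × A₅`: the Sylow part
-/

set_option autoImplicit false
set_option linter.style.haveILetI false

namespace Cfsg.Agent.Lead.JankoClosure

open Subgroup
open Cfsg.Agent.Lead.JankoTwoAlt (small_five card_eq_mul_of_fibres)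

universe u

variable {G : Type u} [Group G] [Finite G]

/-- The conjugates of `t` commuting with `t`. -/
def conjComm (t : G) : Set G := {x : G | ∃ g : G, x = g * t * g⁻¹ ∧ x * t = t * x}

/-- The hypothesis, with the alternating factor made explicit and put in standard position. -/
structure WCtx (G : Type u) [Group G] where
  t : G
  S : Sylow 2 G
  ht : orderOf t = 2
  htS : t ∈ (S : Subgroup G)
  htc : ∀ s ∈ (S : Subgroup G), s * t = t * s
  emb : A5 →* G
  emb_inj : Function.Injective emb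
  emb_comm : ∀ a, emb a * t = t * emb a
  emb_ne : ∀ a, emb a ≠ t
  emb_mem : ∀ a, emb a ∈ closure (conjComm t)
  split : ∀ x ∈ closure (conjComm t), ∃ a, x = emb a ∨ x = t * emb a
  hastd : emb a0 ∈ (S : Subgroup G)
  hbstd : emb b0 ∈ (S : Subgroup G)

omit [Finite G] in
theorem sq_of_order {t : G} (ht : orderOf t = 2) : t * t = 1 := by
  rw [← pow_two, ← ht]; exact pow_orderOf_eq_one t

omit [Finite G] in
theorem cent_le_normalizer (t : G) {c x : G} (hc : c * t = t * c) (hx : x ∈ closure (conjComm t)) :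
    c * x * c⁻¹ ∈ closure (conjComm t) := by
  have hle : closure (conjComm t) ≤ (closure (conjComm t)).comap (MulAut.conj c).toMonoidHom := by
    refine (closure_le _).2 ?_
    rintro x ⟨g, rfl, hx⟩
    refine subset_closure ⟨c * g, by show c * (g * t * g⁻¹) * c⁻¹ = _; group, ?_⟩
    show c * (g * t * g⁻¹) * c⁻¹ * t = t * (c * (g * t * g⁻¹) * c⁻¹)
    have e : c⁻¹ * t = t * c⁻¹ := (Commute.inv_left hc).eq
    calc c * (g * t * g⁻¹) * c⁻¹ * t = c * (g * t * g⁻¹ * t) * c⁻¹ := by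
          rw [mul_assoc (c * (g * t * g⁻¹)), e]; group
      _ = c * (t * (g * t * g⁻¹)) * c⁻¹ := by rw [hx]
      _ = t * (c * (g * t * g⁻¹) * c⁻¹) := by rw [← mul_assoc c t, hc]; group
  exact hle hx

namespace WCtx

variable (D : WCtx G)

/-- the weak closure -/
def W : Subgroup G := closure (conjComm D.t)

/-- the elementary group of order eight -/
def E : Subgroup G := (D.S : Subgroup G) ⊓ D.W

/-- the conjugates of `t` -/
def InD (x : G) : Prop := ∃ g : G, g * D.t * g⁻¹ = x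

omit [Finite G] in
theorem sq_t : D.t * D.t = 1 := sq_of_order D.ht

omit [Finite G] in
theorem t_ne : D.t ≠ 1 := fun e => by have := D.ht; rw [e, orderOf_one] at this; omega

omit [Finite G] in
theorem t_mem_W : D.t ∈ D.W := subset_closure ⟨1, by group, rfl⟩

omit [Finite G] in
theorem t_mem_E : D.t ∈ D.E := ⟨D.htS, D.t_mem_W⟩

omit [Finite G] in
theorem comm_W {x : G} (hx : x ∈ D.W) : x * D.t = D.t * x := by
  have hle : D.W ≤ centralizer ({D.t} : Set G) :=
    (closure_le _).2 fun y ⟨_, _, hy⟩ => mem_centralizer_singleton_iff.2 hy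
  exact mem_centralizer_singleton_iff.1 (hle hx)

omit [Finite G] in
theorem normal_W {c x : G} (hc : c * D.t = D.t * c) (hx : x ∈ D.W) : c * x * c⁻¹ ∈ D.W :=
  cent_le_normalizer D.t hc hx

omit [Finite G] in
theorem mem_W_of_comm {x : G} (hx : D.InD x) (hc : x * D.t = D.t * x) : x ∈ D.W := by
  obtain ⟨g, rfl⟩ := hx
  exact subset_closure ⟨g, rfl, hc⟩

omit [Finite G] in
theorem InD_conj {x : G} (hx : D.InD x) (g : G) : D.InD (g * x * g⁻¹) := by
  obtain ⟨h, rfl⟩ := hx
  exact ⟨g * h, by group⟩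

omit [Finite G] in
theorem InD_sq {x : G} (hx : D.InD x) : x * x = 1 := by
  obtain ⟨g, rfl⟩ := hx
  rw [show g * D.t * g⁻¹ * (g * D.t * g⁻¹) = g * (D.t * D.t) * g⁻¹ by group, D.sq_t]; group

omit [Finite G] in
theorem InD_ne {x : G} (hx : D.InD x) : x ≠ 1 := by
  rintro rfl
  obtain ⟨g, hg⟩ := hx
  refine D.t_ne ?_
  calc D.t = g⁻¹ * (g * D.t * g⁻¹) * g := by group
    _ = 1 := by rw [hg]; group

theorem card_W : Nat.card D.W = 120 := by
  let f : Bool × A5 → D.W := fun z =>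
    ⟨cond z.1 (D.t * D.emb z.2) (D.emb z.2), by
      cases z.1
      · exact D.emb_mem _
      · exact mul_mem D.t_mem_W (D.emb_mem _)⟩
  have hf : Function.Bijective f := by
    refine ⟨?_, ?_⟩
    · rintro ⟨i, a⟩ ⟨j, b⟩ h
      have h : cond i (D.t * D.emb a) (D.emb a) = cond j (D.t * D.emb b) (D.emb b) := congrArg Subtype.val h
      cases i <;> cases j <;> simp only [cond_true, cond_false] at h
      · rw [D.emb_inj h]
      · exact absurd ((map_mul D.emb a b⁻¹).trans (by rw [h, map_inv, mul_inv_cancel_right]))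
          (D.emb_ne _)
      · exact absurd ((map_mul D.emb b a⁻¹).trans (by rw [← h, map_inv, mul_inv_cancel_right]))
          (D.emb_ne _)
      · rw [D.emb_inj (mul_left_cancel h)]
    · rintro ⟨x, hx⟩
      obtain ⟨a, rfl | rfl⟩ := D.split x hx
      · exact ⟨(false, a), rfl⟩
      · exact ⟨(true, a), rfl⟩
  rw [← Nat.card_eq_of_bijective f hf, Nat.card_prod, Nat.card_eq_fintype_card, Fintype.card_bool,
    nat_card_alternatingGroup, Nat.card_fin]
  rfl

omit [Finite G] in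
theorem S_le_cent : (D.S : Subgroup G) ≤ centralizer ({D.t} : Set G) := fun s hs =>
  mem_centralizer_singleton_iff.2 (D.htc s hs)

theorem relIndex_E : ¬ 2 ∣ D.E.relIndex D.W := by
  haveI : Fact (Nat.Prime 2) := ⟨Nat.prime_two⟩
  set C := centralizer ({D.t} : Set G)
  have hWC : D.W ≤ C := fun x hx => mem_centralizer_singleton_iff.2 (D.comm_W hx)
  haveI : (D.W.subgroupOf C).Normal := ⟨fun x hx g => by
    show ((g : G) * (x : G) * (g : G)⁻¹) ∈ D.W
    exact D.normal_W (mem_centralizer_singleton_iff.1 g.2) hx⟩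
  have h := ((D.S).subtype D.S_le_cent).not_dvd_index
  intro h2
  apply h
  refine h2.trans ?_
  rw [E, inf_relIndex_right]
  rw [show ((D.S.subtype D.S_le_cent : Sylow 2 C) : Subgroup C) = (D.S : Subgroup G).subgroupOf C from rfl]
  show (D.S : Subgroup G).relIndex D.W ∣ _
  have e1 : ((D.S : Subgroup G).subgroupOf C).relIndex (D.W.subgroupOf C) = (D.S : Subgroup G).relIndex D.W :=
    relIndex_subgroupOf hWC
  rw [← e1]
  set P := (D.S : Subgroup G).subgroupOf C
  set T := D.W.subgroupOf C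
  refine ⟨(P ⊔ T).index, ?_⟩
  have h1 := relIndex_mul_relIndex ⊥ (P ⊓ T) P bot_le inf_le_left
  have h2 := relIndex_mul_relIndex ⊥ (P ⊓ T) T bot_le inf_le_right
  have h3 := relIndex_mul_relIndex ⊥ T (P ⊔ T) bot_le le_sup_right
  simp only [relIndex_bot_left, inf_relIndex_right, inf_relIndex_left, relIndex_sup_right] at h1 h2 h3
  have h4 := (P ⊔ T).card_mul_index
  rw [← h3, ← h2, ← P.card_mul_index, ← h1] at h4
  have hpos : 0 < Nat.card ↥(P ⊓ T) * T.relIndex P := by rw [h1]; exact Nat.card_pos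
  refine (Nat.eq_of_mul_eq_mul_left hpos ?_).symm
  rw [← h4]; ring

theorem card_E : Nat.card D.E = 8 := by
  haveI : Fact (Nat.Prime 2) := ⟨Nat.prime_two⟩
  have hp : IsPGroup 2 D.E := D.S.2.to_le (inf_le_left : D.E ≤ (D.S : Subgroup G))
  obtain ⟨n, hn⟩ := IsPGroup.iff_card.1 hp
  have h := relIndex_mul_relIndex ⊥ D.E D.W bot_le inf_le_right
  rw [relIndex_bot_left, relIndex_bot_left, D.card_W, hn] at h
  have hodd := D.relIndex_E
  have hle : 2 ^ n ≤ 120 := by
    have : 0 < D.E.relIndex D.W := Nat.pos_of_ne_zero fun e => hodd (e ▸ dvd_zero 2)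
    nlinarith
  have hn7 : n < 7 := by
    by_contra h7
    have := Nat.pow_le_pow_right (show 0 < 2 by norm_num) (not_lt.1 h7)
    omega
  rw [hn]
  interval_cases n <;> omega

omit [Finite G] in
theorem emb_sq {a : A5} (ha : a * a = 1) : D.emb a * D.emb a = 1 := by rw [← map_mul, ha, map_one]

omit [Finite G] in
theorem a_mem : D.emb a0 ∈ D.E := ⟨D.hastd, D.emb_mem _⟩

omit [Finite G] in
theorem b_mem : D.emb b0 ∈ D.E := ⟨D.hbstd, D.emb_mem _⟩

omit [Finite G] in
/-- The four elements of the factor in `E`. -/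
def IsV (v : A5) : Prop := v = 1 ∨ v = a0 ∨ v = b0 ∨ v = a0 * b0

omit [Finite G] in
theorem emb_V_mem {v : A5} (hv : IsV v) : D.emb v ∈ D.E := by
  rcases hv with rfl | rfl | rfl | rfl
  · rw [map_one]; exact one_mem _
  · exact D.a_mem
  · exact D.b_mem
  · rw [map_mul]; exact mul_mem D.a_mem D.b_mem

omit [Finite G] in
theorem IsV_sq {v : A5} (hv : IsV v) : v * v = 1 := by
  rcases hv with rfl | rfl | rfl | rfl <;> decide

theorem mem_E_iff {x : G} : x ∈ D.E ↔ ∃ v, IsV v ∧ (x = D.emb v ∨ x = D.t * D.emb v) := by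
  constructor
  · intro hx
    classical
    let T : Finset A5 := {1, a0, b0, a0 * b0}
    let f : Bool × T → D.E := fun z => ⟨cond z.1 (D.t * D.emb z.2.1) (D.emb z.2.1), by
      have hv : IsV z.2.1 := by
        have := z.2.2
        simp only [T, Finset.mem_insert, Finset.mem_singleton] at this
        exact this
      cases z.1
      · exact D.emb_V_mem hv
      · exact mul_mem D.t_mem_E (D.emb_V_mem hv)⟩
    have hf : Function.Bijective f := (Nat.bijective_iff_injective_and_card f).2 ⟨by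
      rintro ⟨i, a⟩ ⟨j, b⟩ h
      have h : cond i (D.t * D.emb a.1) (D.emb a.1) = cond j (D.t * D.emb b.1) (D.emb b.1) :=
        congrArg Subtype.val h
      cases i <;> cases j <;> simp only [cond_true, cond_false] at h
      · rw [Subtype.ext (D.emb_inj h)]
      · exact absurd ((map_mul D.emb a.1 b.1⁻¹).trans (by rw [h, map_inv, mul_inv_cancel_right]))
          (D.emb_ne _)
      · exact absurd ((map_mul D.emb b.1 a.1⁻¹).trans (by rw [← h, map_inv, mul_inv_cancel_right]))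
          (D.emb_ne _)
      · rw [Subtype.ext (D.emb_inj (mul_left_cancel h))],
      by
        rw [D.card_E, Nat.card_prod, Nat.card_eq_fintype_card, Fintype.card_bool,
          Nat.card_eq_fintype_card, Fintype.card_coe]
        rfl⟩
    obtain ⟨⟨i, v⟩, h⟩ := hf.2 ⟨x, hx⟩
    have hv : IsV v.1 := by
      have := v.2
      simp only [T, Finset.mem_insert, Finset.mem_singleton] at this
      exact this
    refine ⟨v.1, hv, ?_⟩
    have h : cond i (D.t * D.emb v.1) (D.emb v.1) = x := congrArg Subtype.val h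
    cases i
    · exact Or.inl h.symm
    · exact Or.inr h.symm
  · rintro ⟨v, hv, rfl | rfl⟩
    · exact D.emb_V_mem hv
    · exact mul_mem D.t_mem_E (D.emb_V_mem hv)

omit [Finite G] in
theorem comm_t_emb (a : A5) : D.t * D.emb a = D.emb a * D.t := (D.emb_comm a).symm

theorem sq_E {x : G} (hx : x ∈ D.E) : x * x = 1 := by
  obtain ⟨v, hv, rfl | rfl⟩ := D.mem_E_iff.1 hx
  · exact D.emb_sq (IsV_sq hv)
  · rw [show D.t * D.emb v * (D.t * D.emb v) = D.t * (D.emb v * D.t) * D.emb v by group, D.emb_comm,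
      ← mul_assoc, D.sq_t, one_mul, D.emb_sq (IsV_sq hv)]

theorem comm_E {x y : G} (hx : x ∈ D.E) (hy : y ∈ D.E) : x * y = y * x := by
  have h := D.sq_E (mul_mem hx hy)
  rw [mul_eq_one_iff_eq_inv, mul_inv_rev] at h
  rw [h, inv_eq_of_mul_eq_one_right (D.sq_E hx), inv_eq_of_mul_eq_one_right (D.sq_E hy)]

/-- the normalizer of `E` -/
def N : Subgroup G := normalizer (D.E : Set G)

theorem mem_N_of {n : G} (h : ∀ x ∈ D.E, n * x * n⁻¹ ∈ D.E) : n ∈ D.N := by
  refine mem_normalizer_iff_map_conj_eq.2 (eq_of_le_of_card_ge ?_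
    (card_map_of_injective (MulAut.conj n).injective).ge)
  rintro _ ⟨x, hx, rfl⟩
  exact h x hx

omit [Finite G] in
theorem conj_mem_E {n x : G} (hn : n ∈ D.N) (hx : x ∈ D.E) : n * x * n⁻¹ ∈ D.E :=
  (mem_normalizer_iff.1 hn x).1 hx

omit [Finite G] in
theorem inv_conj_mem_E {n x : G} (hn : n ∈ D.N) (hx : x ∈ D.E) : n⁻¹ * x * n ∈ D.E := by
  simpa using D.conj_mem_E (inv_mem hn) hx

omit [Finite G] in
theorem conj_emb_k (v : A5) :
    D.emb k0 * D.emb v * (D.emb k0)⁻¹ = D.emb (k0 * v * k0⁻¹) := by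
  rw [map_mul, map_mul, map_inv]

omit [Finite G] in
theorem IsV_k {v : A5} (hv : IsV v) : IsV (k0 * v * k0⁻¹) := by
  rcases hv with rfl | rfl | rfl | rfl <;> simp only [IsV] <;> decide

theorem k_mem_N : D.emb k0 ∈ D.N := D.mem_N_of fun x hx => by
  obtain ⟨v, hv, rfl | rfl⟩ := D.mem_E_iff.1 hx
  · rw [D.conj_emb_k]; exact D.emb_V_mem (IsV_k hv)
  · rw [show D.emb k0 * (D.t * D.emb v) * (D.emb k0)⁻¹ = (D.emb k0 * D.t) * D.emb v * (D.emb k0)⁻¹ by
      group, D.emb_comm, show D.t * D.emb k0 * D.emb v * (D.emb k0)⁻¹ =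
      D.t * (D.emb k0 * D.emb v * (D.emb k0)⁻¹) by group, D.conj_emb_k]
    exact mul_mem D.t_mem_E (D.emb_V_mem (IsV_k hv))

theorem W_conj_into_E {x : G} (hx : x ∈ D.W) (hx2 : x * x = 1) :
    ∃ w ∈ D.W, w * x * w⁻¹ ∈ D.E := by
  haveI : Fact (Nat.Prime 2) := ⟨Nat.prime_two⟩
  have hEW : D.E ≤ D.W := inf_le_right
  let P : Sylow 2 D.W := Sylow.ofCard (D.E.subgroupOf D.W) (by
    rw [Nat.card_congr (subgroupOfEquivOfLe hEW).toEquiv, D.card_E, D.card_W,
      show (120 : ℕ) = 15 * 2 ^ 3 from rfl, Nat.factorization_mul (by norm_num) (by norm_num),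
      Finsupp.add_apply, Nat.Prime.factorization_pow Nat.prime_two, Finsupp.single_eq_same,
      Nat.factorization_eq_zero_of_not_dvd (by norm_num)]
    rfl)
  have hp : IsPGroup 2 (zpowers (⟨x, hx⟩ : D.W)) := by
    by_cases h1 : (⟨x, hx⟩ : D.W) = 1
    · rw [h1, zpowers_one_eq_bot]; exact IsPGroup.of_bot
    · exact IsPGroup.of_card (n := 1) (by
        rw [Nat.card_zpowers, orderOf_eq_prime (by rw [pow_two]; exact Subtype.ext hx2) h1, pow_one])
  obtain ⟨Q, hQ⟩ := hp.exists_le_sylow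
  obtain ⟨g, hg⟩ := MulAction.exists_smul_eq D.W Q P
  refine ⟨g, g.2, ?_⟩
  have hm : g * ⟨x, hx⟩ * g⁻¹ ∈ ((g • Q : Sylow 2 D.W) : Subgroup D.W) := by
    rw [Sylow.coe_subgroup_smul]
    exact smul_mem_pointwise_smul _ (MulAut.conj g) _ (hQ (mem_zpowers _))
  rw [hg] at hm
  exact hm

theorem V_orbit {u v : A5} (hu : IsV u) (hv : IsV v) (hu1 : u ≠ 1) (hv1 : v ≠ 1) :
    ∃ i : ℕ, k0 ^ i * u * (k0 ^ i)⁻¹ = v := by
  rcases hu with rfl | rfl | rfl | rfl <;> rcases hv with rfl | rfl | rfl | rfl <;>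
    first
    | exact absurd rfl hu1
    | exact absurd rfl hv1
    | exact ⟨0, by decide⟩
    | exact ⟨1, by decide⟩
    | exact ⟨2, by decide⟩

theorem exists_triple : (∀ v, IsV v → v ≠ 1 → D.InD (D.emb v)) ∨
    (∀ v, IsV v → v ≠ 1 → D.InD (D.t * D.emb v)) := by
  obtain ⟨x, ⟨g, hx, hxc⟩, hxt⟩ : ∃ x ∈ conjComm D.t, x ≠ D.t := by
    by_contra h
    simp only [not_exists, not_and, not_not] at h
    have hle : D.W ≤ zpowers D.t := (closure_le _).2 fun x hx => (h x hx) ▸ mem_zpowers _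
    have := card_dvd_of_le hle
    rw [Nat.card_zpowers, D.ht, D.card_W] at this
    norm_num at this
  have hxD : D.InD x := ⟨g, hx.symm⟩
  obtain ⟨w, hw, hwx⟩ := D.W_conj_into_E (D.mem_W_of_comm hxD hxc) (D.InD_sq hxD)
  have hD := D.InD_conj hxD w
  have hne : w * x * w⁻¹ ≠ D.t := fun e => hxt (by
    calc x = w⁻¹ * (w * x * w⁻¹) * w := by group
      _ = w⁻¹ * (D.t * w) := by rw [e]; group
      _ = D.t := by rw [← D.comm_W hw]; group)
  have hconj : ∀ (i : ℕ) (u : A5), D.emb (k0 ^ i) * D.emb u * (D.emb (k0 ^ i))⁻¹ =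
      D.emb (k0 ^ i * u * (k0 ^ i)⁻¹) := fun i u => by rw [map_mul, map_mul, map_inv]
  obtain ⟨u, hu, hcase⟩ := D.mem_E_iff.1 hwx
  have hu1 : u ≠ 1 := fun e => by
    rcases hcase with h | h <;> rw [e, map_one] at h
    · exact D.InD_ne hD h
    · exact hne (h.trans (mul_one _))
  rcases hcase with h | h
  · refine Or.inl fun v hv hv1 => ?_
    obtain ⟨i, hi⟩ := V_orbit hu hv hu1 hv1
    have := D.InD_conj hD (D.emb (k0 ^ i))
    rwa [h, hconj, hi] at this
  · refine Or.inr fun v hv hv1 => ?_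
    obtain ⟨i, hi⟩ := V_orbit hu hv hu1 hv1
    have := D.InD_conj hD (D.emb (k0 ^ i))
    rw [h, show D.emb (k0 ^ i) * (D.t * D.emb u) * (D.emb (k0 ^ i))⁻¹ =
      (D.emb (k0 ^ i) * D.t) * D.emb u * (D.emb (k0 ^ i))⁻¹ by group, D.emb_comm] at this
    rwa [show D.t * D.emb (k0 ^ i) * D.emb u * (D.emb (k0 ^ i))⁻¹ =
      D.t * (D.emb (k0 ^ i) * D.emb u * (D.emb (k0 ^ i))⁻¹) by group, hconj, hi] at this

/-- `E` is generated by the conjugates of `t` in it, so it is weakly closed in `S`. -/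
theorem weakly_closed {g : G} (hg : ∀ x ∈ D.E, g * x * g⁻¹ ∈ (D.S : Subgroup G)) : g ∈ D.N := by
  refine D.mem_N_of fun x hx => ?_
  have hkey : ∀ y ∈ D.E, D.InD y → g * y * g⁻¹ ∈ D.E := fun y hy hyD =>
    ⟨hg y hy, D.mem_W_of_comm (D.InD_conj hyD g) (D.htc _ (hg y hy))⟩
  have ht : g * D.t * g⁻¹ ∈ D.E := hkey _ D.t_mem_E ⟨1, by group⟩
  obtain ⟨v, hv, hx'⟩ := D.mem_E_iff.1 hx
  have hvmem : g * D.emb v * g⁻¹ ∈ D.E := by
    by_cases hv1 : v = 1
    · rw [hv1, map_one]; simp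
    rcases D.exists_triple with h | h
    · exact hkey _ (D.emb_V_mem hv) (h v hv hv1)
    · have := mul_mem ht (hkey _ (mul_mem D.t_mem_E (D.emb_V_mem hv)) (h v hv hv1))
      rwa [show g * D.t * g⁻¹ * (g * (D.t * D.emb v) * g⁻¹) = g * (D.t * D.t) * D.emb v * g⁻¹ by group,
        D.sq_t, mul_one] at this
  rcases hx' with rfl | rfl
  · exact hvmem
  · rw [show g * (D.t * D.emb v) * g⁻¹ = (g * D.t * g⁻¹) * (g * D.emb v * g⁻¹) by group]
    exact mul_mem ht hvmem

theorem fusion {u : G} (hu : u ∈ D.E) (huD : D.InD u) : ∃ n ∈ D.N, n * D.t * n⁻¹ = u := by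
  haveI : Fact (Nat.Prime 2) := ⟨Nat.prime_two⟩
  obtain ⟨g, rfl⟩ := huD
  set C := centralizer ({D.t} : Set G)
  have hle : D.E.map (MulAut.conj g⁻¹).toMonoidHom ≤ C := by
    rintro _ ⟨x, hx, rfl⟩
    refine mem_centralizer_singleton_iff.2 ?_
    show g⁻¹ * x * g⁻¹⁻¹ * D.t = D.t * (g⁻¹ * x * g⁻¹⁻¹)
    have e := D.comm_E hx hu
    calc g⁻¹ * x * g⁻¹⁻¹ * D.t = g⁻¹ * (x * (g * D.t * g⁻¹)) * g := by group
      _ = g⁻¹ * ((g * D.t * g⁻¹) * x) * g := by rw [e]
      _ = D.t * (g⁻¹ * x * g⁻¹⁻¹) := by group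
  have hp : IsPGroup 2 ((D.E.map (MulAut.conj g⁻¹).toMonoidHom).subgroupOf C) :=
    (((D.S.2.to_le inf_le_left).map _).of_equiv (subgroupOfEquivOfLe hle).symm)
  obtain ⟨Q, hQ⟩ := hp.exists_le_sylow
  obtain ⟨c, hc⟩ := MulAction.exists_smul_eq C Q (D.S.subtype D.S_le_cent)
  have hN : (c : G) * g⁻¹ ∈ D.N := D.weakly_closed fun x hx => by
    have hm : c * ⟨g⁻¹ * x * g⁻¹⁻¹, hle ⟨x, hx, rfl⟩⟩ * c⁻¹ ∈ ((c • Q : Sylow 2 C) : Subgroup C) := by
      rw [Sylow.coe_subgroup_smul]
      exact smul_mem_pointwise_smul _ (MulAut.conj c) _ (hQ (mem_subgroupOf.2 ⟨x, hx, rfl⟩))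
    rw [hc] at hm
    rw [show (c : G) * g⁻¹ * x * ((c : G) * g⁻¹)⁻¹ = (c : G) * (g⁻¹ * x * g⁻¹⁻¹) * (c : G)⁻¹ by group]
    exact hm
  refine ⟨g * (c : G)⁻¹, by simpa using inv_mem hN, ?_⟩
  have hct := mem_centralizer_singleton_iff.1 c.2
  calc g * (c : G)⁻¹ * D.t * (g * (c : G)⁻¹)⁻¹ = g * ((c : G)⁻¹ * (D.t * c)) * g⁻¹ := by group
    _ = g * D.t * g⁻¹ := by rw [← hct]; group

/-- the part of the normalizer of `E` centralizing `t` -/
def Nt : Subgroup G := D.N ⊓ centralizer ({D.t} : Set G)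

theorem E_ne_one_D {x : G} (hx : x ∈ D.E) (hx1 : x ≠ 1) : D.InD x := by
  haveI : Fact (Nat.Prime 2) := ⟨Nat.prime_two⟩
  by_contra hxD
  classical
  let O : Set G := {y | y ∈ D.E ∧ D.InD y}
  let f : D.N → O := fun n => ⟨(n : G) * D.t * (n : G)⁻¹, D.conj_mem_E n.2 D.t_mem_E, ⟨n, rfl⟩⟩
  have hcard := card_eq_mul_of_fibres D.N D.Nt inf_le_left f (fun a b => by
    rw [Nt, mem_inf, mem_centralizer_singleton_iff, Subtype.ext_iff]
    constructor
    · intro h
      refine ⟨mul_mem (inv_mem a.2) b.2, ?_⟩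
      have h : (a : G) * D.t * (a : G)⁻¹ = (b : G) * D.t * (b : G)⁻¹ := h
      calc (a : G)⁻¹ * b * D.t = (a : G)⁻¹ * ((b : G) * D.t * (b : G)⁻¹) * b := by group
        _ = (a : G)⁻¹ * ((a : G) * D.t * (a : G)⁻¹) * b := by rw [h]
        _ = D.t * ((a : G)⁻¹ * b) := by group
    · rintro ⟨-, h⟩
      show (a : G) * D.t * (a : G)⁻¹ = (b : G) * D.t * (b : G)⁻¹
      calc (a : G) * D.t * (a : G)⁻¹ = (a : G) * (D.t * ((a : G)⁻¹ * b)) * (b : G)⁻¹ := by group
        _ = (a : G) * ((a : G)⁻¹ * b * D.t) * (b : G)⁻¹ := by rw [h]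
        _ = (b : G) * D.t * (b : G)⁻¹ := by group) (fun ⟨y, hy, hyD⟩ => by
    obtain ⟨n, hn, he⟩ := D.fusion hy hyD
    exact ⟨⟨n, hn⟩, Subtype.ext he⟩)
  have hSN : (D.S : Subgroup G) ≤ D.Nt := fun s hs =>
    ⟨D.mem_N_of fun y hy => ⟨(D.S : Subgroup G).mul_mem ((D.S : Subgroup G).mul_mem hs hy.1) ((D.S : Subgroup G).inv_mem hs), D.normal_W (D.htc s hs) hy.2⟩,
      D.S_le_cent hs⟩
  have hodd : ¬ 2 ∣ Nat.card O := by
    intro h2
    apply D.S.not_dvd_index
    refine h2.trans ?_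
    refine Dvd.dvd.trans ?_ ((relIndex_dvd_index_of_le (K := D.N) (hSN.trans inf_le_left)))
    have hr := relIndex_mul_relIndex (D.S : Subgroup G) D.Nt D.N hSN inf_le_left
    rw [← hr]
    refine dvd_mul_of_dvd_right ?_ _
    have h := relIndex_mul_relIndex ⊥ D.Nt D.N bot_le inf_le_left
    rw [relIndex_bot_left, relIndex_bot_left, hcard, mul_comm] at h
    rw [Nat.eq_of_mul_eq_mul_right Nat.card_pos h]
  -- there are exactly four conjugates of `t` in `E`
  apply hodd
  have h4 : Nat.card O = 4 := by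
    have tri := D.exists_triple
    obtain ⟨v, hv, hxv⟩ := D.mem_E_iff.1 hx
    have hv1 : v ≠ 1 := fun e => by
      rcases hxv with h | h <;> rw [e, map_one] at h
      · exact hx1 h
      · exact hxD ⟨1, by rw [h]; group⟩
    have hdich : ((∀ u, IsV u → u ≠ 1 → D.InD (D.emb u)) ∧ ∀ u, IsV u → u ≠ 1 → ¬ D.InD (D.t * D.emb u)) ∨
        ((∀ u, IsV u → u ≠ 1 → D.InD (D.t * D.emb u)) ∧ ∀ u, IsV u → u ≠ 1 → ¬ D.InD (D.emb u)) := by
      have hconj : ∀ (i : ℕ) (u : A5), D.emb (k0 ^ i) * D.emb u * (D.emb (k0 ^ i))⁻¹ =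
          D.emb (k0 ^ i * u * (k0 ^ i)⁻¹) := fun i u => by rw [map_mul, map_mul, map_inv]
      rcases tri with h | h
      · refine Or.inl ⟨h, fun u hu hu1 hD => ?_⟩
        rcases hxv with e | e
        · exact hxD (e ▸ h v hv hv1)
        obtain ⟨i, hi⟩ := V_orbit hu hv hu1 hv1
        refine hxD ?_
        have := D.InD_conj hD (D.emb (k0 ^ i))
        rw [show D.emb (k0 ^ i) * (D.t * D.emb u) * (D.emb (k0 ^ i))⁻¹ =
          (D.emb (k0 ^ i) * D.t) * D.emb u * (D.emb (k0 ^ i))⁻¹ by group, D.emb_comm] at this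
        rwa [show D.t * D.emb (k0 ^ i) * D.emb u * (D.emb (k0 ^ i))⁻¹ =
          D.t * (D.emb (k0 ^ i) * D.emb u * (D.emb (k0 ^ i))⁻¹) by group, hconj, hi, ← e] at this
      · refine Or.inr ⟨h, fun u hu hu1 hD => ?_⟩
        rcases hxv with e | e
        swap
        · exact hxD (e ▸ h v hv hv1)
        obtain ⟨i, hi⟩ := V_orbit hu hv hu1 hv1
        refine hxD ?_
        have := D.InD_conj hD (D.emb (k0 ^ i))
        rwa [hconj, hi, ← e] at this
    have htD : D.InD D.t := ⟨1, by group⟩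
    rw [Nat.card_coe_set_eq]
    rcases hdich with ⟨hin, hout⟩ | ⟨hin, hout⟩
    · have hO : O = ↑({D.t, D.emb a0, D.emb b0, D.emb (a0 * b0)} : Finset G) := by
        ext y
        simp only [Finset.coe_insert, Finset.coe_singleton, Set.mem_insert_iff, Set.mem_singleton_iff]
        constructor
        · rintro ⟨hy, hyD⟩
          obtain ⟨u, hu, e | e⟩ := D.mem_E_iff.1 hy
          · rcases hu with rfl | rfl | rfl | rfl
            · exact absurd (e.trans (map_one _)) (D.InD_ne hyD)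
            · simp [e]
            · simp [e]
            · simp [e]
          · by_cases hu1 : u = 1
            · left; rw [e, hu1, map_one, mul_one]
            · exact absurd (e ▸ hyD) (hout u hu hu1)
        · rintro (rfl | rfl | rfl | rfl)
          · exact ⟨D.t_mem_E, htD⟩
          · exact ⟨D.a_mem, hin _ (by simp [IsV]) (by decide)⟩
          · exact ⟨D.b_mem, hin _ (by simp [IsV]) (by decide)⟩
          · exact ⟨D.emb_V_mem (by simp [IsV]), hin _ (by simp [IsV]) (by decide)⟩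
      rw [hO, Set.ncard_coe_finset]
      rw [Finset.card_insert_of_notMem (by
          simp only [Finset.mem_insert, Finset.mem_singleton, not_or]
          exact ⟨(D.emb_ne _).symm, (D.emb_ne _).symm, (D.emb_ne _).symm⟩),
        Finset.card_insert_of_notMem (by simp only [Finset.mem_insert, Finset.mem_singleton, not_or, mul_right_inj, D.emb_inj.eq_iff]; decide),
        Finset.card_insert_of_notMem (by simp only [Finset.mem_insert, Finset.mem_singleton, not_or, mul_right_inj, D.emb_inj.eq_iff]; decide), Finset.card_singleton]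
    · have hO : O = ↑({D.t, D.t * D.emb a0, D.t * D.emb b0, D.t * D.emb (a0 * b0)} : Finset G) := by
        ext y
        simp only [Finset.coe_insert, Finset.coe_singleton, Set.mem_insert_iff, Set.mem_singleton_iff]
        constructor
        · rintro ⟨hy, hyD⟩
          obtain ⟨u, hu, e | e⟩ := D.mem_E_iff.1 hy
          · by_cases hu1 : u = 1
            · exact absurd (e.trans (by rw [hu1, map_one])) (D.InD_ne hyD)
            · exact absurd (e ▸ hyD) (hout u hu hu1)
          · rcases hu with rfl | rfl | rfl | rfl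
            · left; rw [e, map_one, mul_one]
            · simp [e]
            · simp [e]
            · simp [e]
        · rintro (rfl | rfl | rfl | rfl)
          · exact ⟨D.t_mem_E, htD⟩
          · exact ⟨mul_mem D.t_mem_E D.a_mem, hin _ (by simp [IsV]) (by decide)⟩
          · exact ⟨mul_mem D.t_mem_E D.b_mem, hin _ (by simp [IsV]) (by decide)⟩
          · exact ⟨mul_mem D.t_mem_E (D.emb_V_mem (by simp [IsV])), hin _ (by simp [IsV]) (by decide)⟩
      have h0 : ∀ u : A5, u ≠ 1 → D.t ≠ D.t * D.emb u := fun u hu e => hu (D.emb_inj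
        ((mul_left_cancel ((mul_one D.t).trans e)).symm.trans (map_one _).symm))
      rw [hO, Set.ncard_coe_finset]
      rw [Finset.card_insert_of_notMem (by
          simp only [Finset.mem_insert, Finset.mem_singleton, not_or]
          exact ⟨h0 _ (by decide), h0 _ (by decide), h0 _ (by decide)⟩),
        Finset.card_insert_of_notMem (by simp only [Finset.mem_insert, Finset.mem_singleton, not_or, mul_right_inj, D.emb_inj.eq_iff]; decide),
        Finset.card_insert_of_notMem (by simp only [Finset.mem_insert, Finset.mem_singleton, not_or, mul_right_inj, D.emb_inj.eq_iff]; decide), Finset.card_singleton]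
  rw [h4]; norm_num

theorem orbit {x : G} (hx : x ∈ D.E) (hx1 : x ≠ 1) : ∃ n ∈ D.N, n * D.t * n⁻¹ = x :=
  D.fusion hx (D.E_ne_one_D hx hx1)

theorem InD_of_W {x : G} (hx : x ∈ D.W) (hx2 : x * x = 1) (hx1 : x ≠ 1) : D.InD x := by
  obtain ⟨w, hw, hwx⟩ := D.W_conj_into_E hx hx2
  have h1 : w * x * w⁻¹ ≠ 1 := fun e => hx1 (by
    calc x = w⁻¹ * (w * x * w⁻¹) * w := by group
      _ = 1 := by rw [e]; group)
  have := D.InD_conj (D.E_ne_one_D hwx h1) w⁻¹
  rwa [show w⁻¹ * (w * x * w⁻¹) * w⁻¹⁻¹ = x by group] at this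

end WCtx

end Cfsg.Agent.Lead.JankoClosure
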