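import Cfsg.Agent.Lib.Lead.JankoClosure.Local
import Mathlib.GroupTheory.Perm.Fin

/-!
# The centralizer of `E` splits over `E`
-/

set_option autoImplicit false
set_option linter.style.haveILetI false

namespace Cfsg.Agent.Lead.JankoClosure

open Subgroup
open Cfsg.Agent.Lead.JankoTwoAlt (card_eq_mul_of_fibres)

universe u

variable {G : Type u} [Group G] [Finite G]

namespace WCtx

variable (D : WCtx G)

/-- the centralizer of `E` -/
def CE : Subgroup G := centralizer (D.E : Set G)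

/-- the elements of the centralizer of `E` centralizing the alternating factor -/
def A : Subgroup G := D.CE ⊓ centralizer (Set.range D.emb)

/-- the complement of `E` in its centralizer -/
def Q : Subgroup G where
  carrier := {z | ∀ n ∈ D.N, n⁻¹ * z * n ∈ D.A}
  one_mem' := fun n _ => by simp
  mul_mem' := fun {a b} ha hb n hn => by
    have := mul_mem (ha n hn) (hb n hn)
    rwa [show n⁻¹ * a * n * (n⁻¹ * b * n) = n⁻¹ * (a * b) * n by group] at this
  inv_mem' := fun {a} ha n hn => by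
    have := inv_mem (ha n hn)
    rwa [show (n⁻¹ * a * n)⁻¹ = n⁻¹ * a⁻¹ * n by group] at this

omit [Finite G] in
theorem Q_le_A {z : G} (hz : z ∈ D.Q) : z ∈ D.A := by simpa using hz 1 (one_mem _)

omit [Finite G] in
theorem mem_CE {z : G} : z ∈ D.CE ↔ ∀ x ∈ D.E, z * x = x * z :=
  ⟨fun h x hx => (mem_centralizer_iff.1 h x hx).symm, fun h => mem_centralizer_iff.2 fun x hx => (h x hx).symm⟩

omit [Finite G] in
theorem mem_A {z : G} : z ∈ D.A ↔ z ∈ D.CE ∧ ∀ a, z * D.emb a = D.emb a * z :=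
  ⟨fun h => ⟨h.1, fun a => (mem_centralizer_iff.1 h.2 _ ⟨a, rfl⟩).symm⟩,
    fun h => ⟨h.1, mem_centralizer_iff.2 fun _ ⟨a, ha⟩ => ha ▸ (h.2 a).symm⟩⟩

omit [Finite G] in
theorem Q_conj {z n : G} (hz : z ∈ D.Q) (hn : n ∈ D.N) : n * z * n⁻¹ ∈ D.Q := fun m hm => by
  have := hz (n⁻¹ * m) (mul_mem (inv_mem hn) hm)
  rwa [show (n⁻¹ * m)⁻¹ * z * (n⁻¹ * m) = m⁻¹ * (n * z * n⁻¹) * m by group] at this

omit [Finite G] in
theorem CE_comm_t {z : G} (hz : z ∈ D.CE) : z * D.t = D.t * z := D.mem_CE.1 hz _ D.t_mem_E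

omit [Finite G] in
theorem CE_conj {z n : G} (hz : z ∈ D.CE) (hn : n ∈ D.N) : n * z * n⁻¹ ∈ D.CE := D.mem_CE.2 fun x hx => by
  have h := D.mem_CE.1 hz _ (D.inv_conj_mem_E hn hx)
  calc n * z * n⁻¹ * x = n * (z * (n⁻¹ * x * n)) * n⁻¹ := by group
    _ = n * (n⁻¹ * x * n * z) * n⁻¹ := by rw [h]
    _ = x * (n * z * n⁻¹) := by group

theorem CE_le_N {z : G} (hz : z ∈ D.CE) : z ∈ D.N := D.mem_N_of fun x hx => by
  rwa [D.mem_CE.1 hz x hx, mul_inv_cancel_right]

theorem E_le_CE {x : G} (hx : x ∈ D.E) : x ∈ D.CE := D.mem_CE.2 fun _ hy => D.comm_E hx hy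

omit [Finite G] in
theorem conj_emb_range {c : G} (hc : c * D.t = D.t * c) (a : A5) : ∃ b, c * D.emb a * c⁻¹ = D.emb b := by
  obtain ⟨p, q, rfl⟩ := squares a
  have key : ∀ p : A5, ∃ b, c * D.emb p * c⁻¹ * (c * D.emb p * c⁻¹) = D.emb b := by
    intro p
    obtain ⟨b, hb | hb⟩ := D.split _ (D.normal_W hc (D.emb_mem p)) <;> refine ⟨b * b, ?_⟩ <;> rw [hb, map_mul]
    rw [show D.t * D.emb b * (D.t * D.emb b) = D.t * (D.emb b * D.t) * D.emb b by group, D.emb_comm,
      ← mul_assoc, D.sq_t, one_mul]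
  obtain ⟨b₁, h₁⟩ := key p
  obtain ⟨b₂, h₂⟩ := key q
  refine ⟨b₁ * b₂, ?_⟩
  rw [map_mul D.emb b₁, ← h₁, ← h₂]
  simp only [map_mul]
  group

theorem exists_A_factor {z : G} (hz : z ∈ D.CE) : ∃ v, IsV v ∧ D.emb v * z ∈ D.A := by
  have hc := D.CE_comm_t hz
  choose f hf using D.conj_emb_range hc
  let F : A5 →* A5 := MonoidHom.mk' f fun a b => D.emb_inj (by
    rw [map_mul, ← hf, ← hf, ← hf, map_mul]; group)
  have hinj : Function.Injective F := fun a b h => D.emb_inj (by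
    have h' : z * D.emb a * z⁻¹ = z * D.emb b * z⁻¹ := by rw [hf, hf]; exact congrArg D.emb h
    exact mul_left_cancel (mul_right_cancel h'))
  have hfix : ∀ v, IsV v → F v = v := fun v hv => D.emb_inj (by
    show D.emb (f v) = _
    rw [← hf, D.mem_CE.1 hz _ (D.emb_V_mem hv), mul_inv_cancel_right])
  obtain ⟨v, hv, h⟩ := rigid_hom F hinj (hfix _ (by simp [IsV])) (hfix _ (by simp [IsV]))
  refine ⟨v, hv, D.mem_A.2 ⟨mul_mem (D.E_le_CE (D.emb_V_mem hv)) hz, fun a => ?_⟩⟩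
  have e : z * D.emb a * z⁻¹ = D.emb v * D.emb a * (D.emb v)⁻¹ := by
    rw [hf, show f a = v * a * v⁻¹ from h a, map_mul, map_mul, map_inv]
  have hvv := D.emb_sq (IsV_sq hv)
  calc D.emb v * z * D.emb a = D.emb v * (z * D.emb a * z⁻¹) * z := by group
    _ = (D.emb v * D.emb v) * D.emb a * (D.emb v)⁻¹ * z := by rw [e]; group
    _ = D.emb a * (D.emb v * z) := by
      rw [hvv, one_mul, inv_eq_of_mul_eq_one_right hvv, mul_assoc]

theorem eq_of_A_V {v : A5} (hv : IsV v) (h : D.emb v ∈ D.A) : v = 1 :=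
  center_trivial v fun a => D.emb_inj (by rw [map_mul, map_mul]; exact (D.mem_A.1 h).2 a)

theorem A_E {x : G} (hx : x ∈ D.A) (hxE : x ∈ D.E) : x = 1 ∨ x = D.t := by
  obtain ⟨v, hv, rfl | rfl⟩ := D.mem_E_iff.1 hxE
  · left; rw [D.eq_of_A_V hv hx, map_one]
  · right
    have h : D.emb v ∈ D.A := by
      have ht : D.t ∈ D.A := D.mem_A.2 ⟨D.E_le_CE D.t_mem_E, fun a => D.comm_t_emb a⟩
      simpa using (D.A.mul_mem_cancel_left ht).1 hx
    rw [D.eq_of_A_V hv h, map_one, mul_one]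

theorem Q_E {x : G} (hx : x ∈ D.Q) (hxE : x ∈ D.E) : x = 1 := by
  by_contra h1
  obtain h | h := D.A_E (D.Q_le_A hx) hxE
  · exact h1 h
  have haE := D.a_mem
  have ha1 : D.emb a0 ≠ 1 := fun e => basics.1 (D.emb_inj (e.trans (map_one _).symm))
  obtain ⟨n, hn, he⟩ := D.orbit haE ha1
  rcases D.A_E (hx n hn) (D.inv_conj_mem_E hn hxE) with e | e
  · exact h1 (by
      calc x = n * (n⁻¹ * x * n) * n⁻¹ := by group
        _ = 1 := by rw [e]; group)
  · refine D.emb_ne a0 (he.symm.trans ?_)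
    calc n * D.t * n⁻¹ = n * (n⁻¹ * x * n) * n⁻¹ := by rw [e]
      _ = x := by group
      _ = D.t := h

/-- The elements moving `C(E)` only inside the cosets of `E`. -/
def Mov : Subgroup G where
  carrier := {h | h ∈ D.N ∧ ∀ z ∈ D.CE, ∃ e ∈ D.E, h * z * h⁻¹ = z * e}
  one_mem' := ⟨one_mem _, fun z _ => ⟨1, one_mem _, by simp⟩⟩
  mul_mem' := fun {a b} ⟨haN, ha⟩ ⟨hbN, hb⟩ => ⟨mul_mem haN hbN, fun z hz => by
    obtain ⟨e, he, h1⟩ := hb z hz
    obtain ⟨f, hf, h2⟩ := ha z hz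
    refine ⟨f * (a * e * a⁻¹), mul_mem hf (D.conj_mem_E haN he), ?_⟩
    calc a * b * z * (a * b)⁻¹ = a * (b * z * b⁻¹) * a⁻¹ := by group
      _ = a * z * a⁻¹ * (a * e * a⁻¹) := by rw [h1]; group
      _ = z * (f * (a * e * a⁻¹)) := by rw [h2, mul_assoc]⟩
  inv_mem' := fun {a} ⟨haN, ha⟩ => ⟨inv_mem haN, fun z hz => by
    obtain ⟨e, he, h1⟩ := ha z hz
    refine ⟨(a⁻¹ * e * a)⁻¹, inv_mem (D.inv_conj_mem_E haN he), ?_⟩
    calc a⁻¹ * z * a⁻¹⁻¹ = a⁻¹ * (z * e) * a * (a⁻¹ * e * a)⁻¹ := by group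
      _ = z * (a⁻¹ * e * a)⁻¹ := by rw [← h1]; group⟩

theorem k_mov : D.emb k0 ∈ D.Mov := ⟨D.k_mem_N, fun z hz => by
  obtain ⟨v, hv, ha⟩ := D.exists_A_factor hz
  refine ⟨D.emb v * D.emb (k0 * v * k0⁻¹), mul_mem (D.emb_V_mem hv) (D.emb_V_mem (IsV_k hv)), ?_⟩
  have hvv := D.emb_sq (IsV_sq hv)
  have hz' : z = D.emb v * (D.emb v * z) := by rw [← mul_assoc, hvv, one_mul]
  have hcomm := D.mem_CE.1 hz _ (D.emb_V_mem hv)
  have hk := (D.mem_A.1 ha).2 k0
  rw [← D.conj_emb_k]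
  calc D.emb k0 * z * (D.emb k0)⁻¹ = D.emb k0 * (D.emb v * (D.emb v * z)) * (D.emb k0)⁻¹ := by rw [← hz']
    _ = (D.emb k0 * D.emb v * (D.emb k0)⁻¹) * (D.emb k0 * (D.emb v * z) * (D.emb k0)⁻¹) := by group
    _ = (D.emb k0 * D.emb v * (D.emb k0)⁻¹) * (D.emb v * z) := by
      rw [← hk, mul_inv_cancel_right]
    _ = D.emb v * z * (D.emb k0 * D.emb v * (D.emb k0)⁻¹) := by
      rw [(D.mem_CE.1 ((D.mem_A.1 ha).1) _ (D.conj_mem_E D.k_mem_N (D.emb_V_mem hv)))]
    _ = z * (D.emb v * (D.emb k0 * D.emb v * (D.emb k0)⁻¹)) := by rw [← hcomm]; group⟩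

theorem conj_k_mov {n : G} (hn : n ∈ D.N) : n * D.emb k0 * n⁻¹ ∈ D.Mov :=
  ⟨mul_mem (mul_mem hn D.k_mem_N) (inv_mem hn), fun z hz => by
    have hz' : n⁻¹ * z * n ∈ D.CE := by simpa using D.CE_conj hz (inv_mem hn)
    obtain ⟨e, he, h⟩ := D.k_mov.2 _ hz'
    refine ⟨n * e * n⁻¹, D.conj_mem_E hn he, ?_⟩
    calc n * D.emb k0 * n⁻¹ * z * (n * D.emb k0 * n⁻¹)⁻¹ =
        n * (D.emb k0 * (n⁻¹ * z * n) * (D.emb k0)⁻¹) * n⁻¹ := by group
      _ = z * (n * e * n⁻¹) := by rw [h]; group⟩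

/-- the action on `E` -/
noncomputable def φ : ↥D.N →* MulAut D.E := D.E.normalizerMonoidHom

omit [Finite G] in
theorem φ_apply (n : D.N) (x : D.E) : ((D.φ n x : D.E) : G) = (n : G) * x * (n : G)⁻¹ := rfl

omit [Finite G] in
theorem φ_eq_one {n : D.N} : D.φ n = 1 ↔ (n : G) ∈ D.CE := by
  rw [D.mem_CE]
  constructor
  · intro h x hx
    have := congrArg Subtype.val (DFunLike.congr_fun h ⟨x, hx⟩)
    rw [D.φ_apply] at this
    exact mul_inv_eq_iff_eq_mul.1 this
  · intro h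
    ext ⟨x, hx⟩
    rw [D.φ_apply]
    show (n : G) * x * (n : G)⁻¹ = x
    rw [h x hx, mul_inv_cancel_right]

omit [Finite G] in
theorem φ_pow_eq_one {n : D.N} (i : ℕ) (h : D.φ (n ^ i) = 1) : (D.φ n) ^ i = 1 := by rwa [← map_pow]

/-- An automorphism of `E` of order seven fixes only the identity. -/
theorem fpf {σ : MulAut D.E} (hσ : orderOf σ = 7) {x : D.E} (hx : σ x = x) : x = 1 := by
  by_contra hx1
  classical
  haveI := Fintype.ofFinite D.E
  let p : D.E → Prop := fun y => y ≠ 1 ∧ y ≠ x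
  have hpres : ∀ y, p (σ y) ↔ p y := fun y => by
    simp only [p, ne_eq, MulEquiv.map_eq_one_iff]
    conv_lhs => rw [← hx]
    rw [σ.injective.eq_iff]
  let π : Equiv.Perm {y // p y} := Equiv.Perm.subtypePerm (σ.toEquiv : Equiv.Perm D.E) hpres
  have hπ : π ^ 7 = 1 := by
    rw [Equiv.Perm.subtypePerm_pow]
    refine Equiv.ext fun y => Subtype.ext ?_
    have h7 : σ ^ 7 = 1 := by rw [← hσ]; exact pow_orderOf_eq_one σ
    have : ∀ (k : ℕ) (z : D.E), ((σ.toEquiv : Equiv.Perm D.E) ^ k) z = (σ ^ k) z := by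
      intro k
      induction k with
      | zero => intro z; rfl
      | succ k ih => intro z; rw [pow_succ, pow_succ]; exact ih _
    show ((σ.toEquiv : Equiv.Perm D.E) ^ 7) y = y
    rw [this, h7]; rfl
  have hcard : Fintype.card {y // p y} = 6 := by
    rw [Fintype.card_subtype, show (Finset.univ.filter p) = Finset.univ \ {1, x} by
      ext y; simp [p], Finset.card_sdiff_of_subset (Finset.subset_univ _), Finset.card_univ,
      ← Nat.card_eq_fintype_card, D.card_E, Finset.card_insert_of_notMem (by simpa using Ne.symm hx1),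
      Finset.card_singleton]
  have hπ1 : π = 1 := by
    rw [← orderOf_eq_one_iff]
    rcases (Nat.dvd_prime (by norm_num : Nat.Prime 7)).1 (orderOf_dvd_of_pow_eq_one hπ) with h | h
    · exact h
    · have := orderOf_dvd_natCard π
      rw [h, Nat.card_eq_fintype_card, Fintype.card_perm, hcard] at this
      norm_num [Nat.factorial] at this
  have : σ = 1 := MulEquiv.ext fun y => by
    by_cases hy : p y
    · exact congrArg Subtype.val (Equiv.ext_iff.1 hπ1 ⟨y, hy⟩)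
    · by_cases hy1 : y = 1
      · rw [hy1, map_one]; rfl
      · have : y = x := by
          by_contra h
          exact hy ⟨hy1, h⟩
        rw [this, hx]; rfl
  rw [this, orderOf_one] at hσ
  omega

theorem orbit_pow {σ : MulAut D.E} (hσ : orderOf σ = 7) {x : D.E} (hx : x ≠ 1) :
    ∃ i : ℕ, (σ ^ i) ⟨D.t, D.t_mem_E⟩ = x := by
  classical
  haveI := Fintype.ofFinite D.E
  set t' : D.E := ⟨D.t, D.t_mem_E⟩
  have ht' : t' ≠ 1 := fun e => D.t_ne (congrArg Subtype.val e)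
  let f : Fin 7 → {y : D.E // y ≠ 1} := fun i => ⟨(σ ^ (i : ℕ)) t', fun e => ht'
    ((σ ^ (i : ℕ)).map_eq_one_iff.1 e)⟩
  have hf : Function.Bijective f := (Nat.bijective_iff_injective_and_card f).2 ⟨fun i j h0 => by
      have h : (σ ^ (i : ℕ)) t' = (σ ^ (j : ℕ)) t' := congrArg Subtype.val h0
      wlog hij : (i : ℕ) ≤ j generalizing i j
      · exact (this j i h0.symm h.symm (le_of_not_ge hij)).symm
      have hfix : (σ ^ ((j : ℕ) - i)) t' = t' := (σ ^ (i : ℕ)).injective (by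
        rw [← MulAut.mul_apply, ← pow_add, show (i : ℕ) + (j - i) = j by omega]; exact h.symm)
      by_contra hne
      refine ht' (D.fpf ?_ hfix)
      rw [orderOf_pow, hσ, Nat.coprime_iff_gcd_eq_one.1, Nat.div_one]
      refine ((Nat.Prime.coprime_iff_not_dvd (by norm_num)).2 fun hd => hne (Fin.ext ?_))
      have := Nat.eq_zero_of_dvd_of_lt hd (by have := j.2; omega)
      omega,
    by rw [Nat.card_fin, Nat.card_eq_fintype_card, Fintype.card_subtype_compl, Fintype.card_subtype_eq,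
      ← Nat.card_eq_fintype_card, D.card_E]⟩
  obtain ⟨i, hi⟩ := hf.2 ⟨x, hx⟩
  exact ⟨i, congrArg Subtype.val hi⟩

theorem range_card : ∃ s : ℕ, s ≤ 6 ∧ Nat.card D.φ.range = 7 * s ∧
    Nat.card D.Nt = s * Nat.card D.CE := by
  classical
  let T : Finset A5 := {a0, b0, a0 * b0}
  have hmem : ∀ (n : D.Nt) (v : A5), IsV v → v ≠ 1 → ∃ w ∈ T, (n : G) * D.emb v * (n : G)⁻¹ = D.emb w := by
    intro n v hv hv1
    obtain ⟨w, hw⟩ := D.conj_emb_range (mem_centralizer_singleton_iff.1 n.2.2) v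
    refine ⟨w, ?_, hw⟩
    obtain ⟨u, hu, h | h⟩ := D.mem_E_iff.1 (D.conj_mem_E n.2.1 (D.emb_V_mem hv)) <;> rw [hw] at h
    · rw [D.emb_inj h]
      have hu1 : u ≠ 1 := fun e => by
        rw [e, map_one, ← hw] at h
        exact hv1 (D.emb_inj (by
          rw [map_one]
          calc D.emb v = (n : G)⁻¹ * ((n : G) * D.emb v * (n : G)⁻¹) * n := by group
            _ = 1 := by rw [h]; group))
      rcases hu with rfl | rfl | rfl | rfl
      · exact absurd rfl hu1
      all_goals simp [T]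
    · exact absurd ((map_mul D.emb w u⁻¹).trans (by rw [h, map_inv, mul_inv_cancel_right])) (D.emb_ne _)
  choose g hgT hg using hmem
  let P : Finset (A5 × A5) := (T ×ˢ T).filter fun p => p.1 ≠ p.2
  let f : D.Nt → P := fun n => ⟨(g n a0 (by simp [IsV]) (by decide), g n b0 (by simp [IsV]) (by decide)), by
    simp only [P, Finset.mem_filter, Finset.mem_product]
    refine ⟨⟨hgT _ _ _ _, hgT _ _ _ _⟩, fun e => ?_⟩
    have h1 := hg n a0 (by simp [IsV]) (by decide)
    rw [e, ← hg n b0 (by simp [IsV]) (by decide)] at h1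
    exact absurd (D.emb_inj (mul_left_cancel (mul_right_cancel h1))) (by decide)⟩
  have hCE : D.CE ≤ D.Nt := fun z hz => ⟨D.CE_le_N hz, mem_centralizer_singleton_iff.2 (D.CE_comm_t hz)⟩
  let f' : D.Nt → Set.range f := fun n => ⟨f n, n, rfl⟩
  have h1 := card_eq_mul_of_fibres D.Nt D.CE hCE f' (fun a b => by
    rw [D.mem_CE]
    constructor
    · intro hab
      have h0 : (g a a0 (by simp [IsV]) (by decide), g a b0 (by simp [IsV]) (by decide)) =
          (g b a0 (by simp [IsV]) (by decide), g b b0 (by simp [IsV]) (by decide)) :=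
        congrArg (fun z : Set.range f => (z.1.1 : A5 × A5)) hab
      have e1 : g a a0 (by simp [IsV]) (by decide) = g b a0 (by simp [IsV]) (by decide) := congrArg Prod.fst h0
      have e2 : g a b0 (by simp [IsV]) (by decide) = g b b0 (by simp [IsV]) (by decide) := congrArg Prod.snd h0
      have ea := hg a a0 (by simp [IsV]) (by decide)
      have eb := hg a b0 (by simp [IsV]) (by decide)
      rw [e1, ← hg b a0 (by simp [IsV]) (by decide)] at ea
      rw [e2, ← hg b b0 (by simp [IsV]) (by decide)] at eb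
      have comm : ∀ x : G, (a : G) * x * (a : G)⁻¹ = b * x * (b : G)⁻¹ →
          (a : G)⁻¹ * b * x = x * ((a : G)⁻¹ * b) := fun x h => by
        calc (a : G)⁻¹ * b * x = (a : G)⁻¹ * (b * x * (b : G)⁻¹) * b := by group
          _ = (a : G)⁻¹ * (a * x * (a : G)⁻¹) * b := by rw [h]
          _ = x * ((a : G)⁻¹ * b) := by group
      have ct : (a : G)⁻¹ * b * D.t = D.t * ((a : G)⁻¹ * b) :=
        mem_centralizer_singleton_iff.1 (mul_mem (inv_mem a.2.2) b.2.2)
      have ca := comm _ ea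
      have cb := comm _ eb
      intro x hx
      obtain ⟨v, hv, hx | hx⟩ := D.mem_E_iff.1 hx <;> rw [hx] <;> rcases hv with rfl | rfl | rfl | rfl <;>
        (try simp only [map_mul, map_one, mul_one, one_mul]) <;>
        first
        | exact (Commute.one_right _).eq
        | exact ct
        | exact ca
        | exact cb
        | exact (Commute.mul_right ca cb : Commute _ _).eq
        | exact (Commute.mul_right ct ca : Commute _ _).eq
        | exact (Commute.mul_right ct cb : Commute _ _).eq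
        | exact (Commute.mul_right ct (Commute.mul_right ca cb) : Commute _ _).eq
    · intro h
      have key : ∀ v (hv : IsV v) (hv1 : v ≠ 1), g a v hv hv1 = g b v hv hv1 := fun v hv hv1 => D.emb_inj (by
        rw [← hg, ← hg]
        have := h _ (D.emb_V_mem hv)
        calc (a : G) * D.emb v * (a : G)⁻¹ = (a : G) * (D.emb v * ((a : G)⁻¹ * b)) * (b : G)⁻¹ := by group
          _ = (a : G) * ((a : G)⁻¹ * b * D.emb v) * (b : G)⁻¹ := by rw [this]
          _ = (b : G) * D.emb v * (b : G)⁻¹ := by group)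
      exact Subtype.ext (Subtype.ext (Prod.ext (key _ _ _) (key _ _ _)))) (by rintro ⟨_, n, rfl⟩; exact ⟨n, rfl⟩)
  refine ⟨Nat.card (Set.range f), ?_, ?_, h1⟩
  · refine (Nat.card_le_card_of_injective _ Subtype.val_injective).trans (le_of_eq ?_)
    rw [Nat.card_eq_fintype_card, Fintype.card_coe]
    decide
  · let O := {x : D.E // x ≠ 1}
    have hO : Nat.card O = 7 := by
      haveI := Fintype.ofFinite D.E
      rw [Nat.card_eq_fintype_card, Fintype.card_subtype_compl, Fintype.card_subtype_eq,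
        ← Nat.card_eq_fintype_card, D.card_E]
    let q : D.N → O := fun n => ⟨D.φ n ⟨D.t, D.t_mem_E⟩, fun e => D.t_ne
      (congrArg Subtype.val ((MulEquiv.map_eq_one_iff _).1 e))⟩
    have h2 := card_eq_mul_of_fibres D.N D.Nt inf_le_left q (fun a b => by
      rw [Nt, mem_inf, mem_centralizer_singleton_iff]
      constructor
      · intro hab
        have h : (a : G) * D.t * (a : G)⁻¹ = (b : G) * D.t * (b : G)⁻¹ :=
          congrArg (fun z : O => ((z.1 : D.E) : G)) hab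
        refine ⟨mul_mem (inv_mem a.2) b.2, ?_⟩
        calc (a : G)⁻¹ * b * D.t = (a : G)⁻¹ * ((b : G) * D.t * (b : G)⁻¹) * b := by group
          _ = (a : G)⁻¹ * ((a : G) * D.t * (a : G)⁻¹) * b := by rw [h]
          _ = D.t * ((a : G)⁻¹ * b) := by group
      · rintro ⟨-, h⟩
        refine Subtype.ext (Subtype.ext (show (a : G) * D.t * (a : G)⁻¹ = (b : G) * D.t * (b : G)⁻¹ from ?_))
        calc (a : G) * D.t * (a : G)⁻¹ = (a : G) * (D.t * ((a : G)⁻¹ * b)) * (b : G)⁻¹ := by group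
          _ = (a : G) * ((a : G)⁻¹ * b * D.t) * (b : G)⁻¹ := by rw [h]
          _ = (b : G) * D.t * (b : G)⁻¹ := by group) (fun ⟨⟨x, hx⟩, hx1⟩ => by
      obtain ⟨n, hn, he⟩ := D.orbit hx (fun e => hx1 (Subtype.ext e))
      exact ⟨⟨n, hn⟩, Subtype.ext (Subtype.ext he)⟩)
    have h3 := card_eq_mul_of_fibres D.N D.CE (fun z hz => D.CE_le_N hz)
      (fun n : D.N => (⟨D.φ n, n, rfl⟩ : D.φ.range)) (fun a b => by
        rw [Subtype.ext_iff]
        show D.φ a = D.φ b ↔ _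
        rw [← inv_mul_eq_one, ← map_inv, ← map_mul]
        exact D.φ_eq_one) (by rintro ⟨_, n, rfl⟩; exact ⟨n, rfl⟩)
    rw [h2, hO, h1, ← mul_assoc] at h3
    exact (Nat.eq_of_mul_eq_mul_right Nat.card_pos h3).symm

/-- the subgroup generated by the conjugates of the alternating factor under the normalizer of `E` -/
def M : Subgroup G := closure {x | ∃ n ∈ D.N, ∃ a : A5, x = n * D.emb a * n⁻¹}

omit [Finite G] in
theorem conj_emb_mem_M {n : G} (hn : n ∈ D.N) (a : A5) : n * D.emb a * n⁻¹ ∈ D.M :=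
  subset_closure ⟨n, hn, a, rfl⟩

omit [Finite G] in
theorem emb_mem_M (a : A5) : D.emb a ∈ D.M := by simpa using D.conj_emb_mem_M (one_mem _) a

/-- An element of order seven on `E` that moves `C(E)` only inside the cosets of `E`. -/
theorem exists_r : ∃ r : D.N, (r : G) ∈ D.Mov ∧ orderOf (D.φ r) = 7 ∧
    (∀ n : D.N, ∃ j : ℕ, D.φ (n * r * n⁻¹) = D.φ r ^ j) ∧ (r : G) ∈ D.M := by
  haveI : Fact (Nat.Prime 7) := ⟨by norm_num⟩
  obtain ⟨s, hs6, hI, -⟩ := D.range_card
  obtain ⟨⟨ρ, n, rfl⟩, hρ⟩ := exists_prime_orderOf_dvd_card' 7 (hI ▸ dvd_mul_right 7 s)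
  replace hρ : orderOf (D.φ n) = 7 := (orderOf_coe _).trans hρ
  set I := D.φ.range
  have hsyl : Nat.card (Sylow 7 I) = 1 := by
    obtain ⟨P⟩ : Nonempty (Sylow 7 I) := inferInstance
    have hs0 : s ≠ 0 := fun e => Nat.card_pos.ne' (by rw [hI, e, mul_zero] : Nat.card I = 0)
    have hP : Nat.card P = 7 := by
      rw [P.card_eq_multiplicity, hI, Nat.factorization_mul (by norm_num) hs0, Finsupp.add_apply,
        Nat.Prime.factorization_self (by norm_num),
        Nat.factorization_eq_zero_of_not_dvd (fun h => by have := Nat.le_of_dvd (by omega) h; omega)]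
      rfl
    have hd := P.card_dvd_index
    have hi : (P : Subgroup I).index = s := by
      have := (P : Subgroup I).card_mul_index
      rw [hP, hI] at this
      omega
    rw [hi] at hd
    have hle := Nat.le_of_dvd (by omega) hd
    have hmod := card_sylow_modEq_one 7 I
    unfold Nat.ModEq at hmod
    omega
  haveI : Subsingleton (Sylow 7 I) := (Nat.card_eq_one_iff_unique.1 hsyl).1
  have hnormal : ∀ m : D.N, ∃ j : ℕ, D.φ (m * n * m⁻¹) = D.φ n ^ j := by
    intro m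
    set ρ' : I := ⟨D.φ n, n, rfl⟩
    set μ : I := ⟨D.φ m, m, rfl⟩
    have hp : ∀ x : I, orderOf x = 7 → IsPGroup 7 (zpowers x) := fun x hx =>
      IsPGroup.of_card (n := 1) (by rw [Nat.card_zpowers, hx, pow_one])
    have hρ' : orderOf ρ' = 7 := by rw [← orderOf_coe]; exact hρ
    have hc : orderOf (μ * ρ' * μ⁻¹) = 7 := by
      rw [← hρ']; exact orderOf_injective (MulAut.conj μ).toMonoidHom (MulAut.conj μ).injective ρ'
    obtain ⟨P, hP⟩ := (hp _ hρ').exists_le_sylow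
    obtain ⟨P', hP'⟩ := (hp _ hc).exists_le_sylow
    rw [Subsingleton.elim P' P] at hP'
    have hs0 : s ≠ 0 := fun e => Nat.card_pos.ne' (by rw [hI, e, mul_zero] : Nat.card I = 0)
    have hP7 : Nat.card P = 7 := by
      rw [P.card_eq_multiplicity, hI, Nat.factorization_mul (by norm_num) hs0, Finsupp.add_apply,
        Nat.Prime.factorization_self (by norm_num),
        Nat.factorization_eq_zero_of_not_dvd (fun h => by have := Nat.le_of_dvd (by omega) h; omega)]
      rfl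
    have e : zpowers ρ' = (P : Subgroup I) := eq_of_le_of_card_ge hP (by rw [Nat.card_zpowers, hρ', hP7])
    have hm : μ * ρ' * μ⁻¹ ∈ zpowers ρ' := e ▸ hP' (mem_zpowers _)
    obtain ⟨j, hj⟩ := (mem_powers_iff_mem_zpowers).2 hm
    refine ⟨j, ?_⟩
    have := congrArg Subtype.val hj
    simp only [SubmonoidClass.coe_pow, Subgroup.coe_mul, Subgroup.coe_inv] at this
    rw [map_mul, map_mul, map_inv]
    exact this.symm
  set k : D.N := ⟨D.emb k0, D.k_mem_N⟩
  obtain ⟨j, hj⟩ := hnormal k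
  set r : D.N := k * n * k⁻¹ * n⁻¹
  have hr : D.φ r = D.φ n ^ j * (D.φ n)⁻¹ := by rw [map_mul, hj, map_inv]
  have hmem : D.φ r ∈ zpowers (D.φ n) := by
    rw [hr]; exact mul_mem (pow_mem (mem_zpowers _) j) (inv_mem (mem_zpowers _))
  have hr1 : D.φ r ≠ 1 := by
    intro e
    rw [map_mul, map_inv, mul_inv_eq_one] at e
    have hcomm : D.φ k * D.φ n = D.φ n * D.φ k := by
      rw [map_mul, map_mul, map_inv, mul_inv_eq_iff_eq_mul] at e
      exact e
    have hk : D.φ k = 1 := MulEquiv.ext fun x => by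
      by_cases hx : x = 1
      · rw [hx, map_one, map_one]
      obtain ⟨i, rfl⟩ := D.orbit_pow hρ hx
      have hfix : D.φ k ⟨D.t, D.t_mem_E⟩ = ⟨D.t, D.t_mem_E⟩ := Subtype.ext (by
        rw [D.φ_apply]
        show D.emb k0 * D.t * (D.emb k0)⁻¹ = D.t
        rw [D.emb_comm, mul_inv_cancel_right])
      rw [← MulAut.mul_apply, (Commute.pow_right (hcomm : Commute (D.φ k) (D.φ n)) i).eq, MulAut.mul_apply,
        hfix]
      rfl
    have h := D.mem_CE.1 (D.φ_eq_one.1 hk) _ D.a_mem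
    rw [show ((k : D.N) : G) = D.emb k0 from rfl, ← map_mul, ← map_mul] at h
    exact absurd (D.emb_inj h) (by decide)
  have hr7 : orderOf (D.φ r) = 7 := by
    have := orderOf_dvd_natCard (⟨_, hmem⟩ : zpowers (D.φ n))
    rw [orderOf_mk, Nat.card_zpowers, hρ] at this
    exact ((Nat.dvd_prime (by norm_num : Nat.Prime 7)).1 this).resolve_left fun e =>
      hr1 (orderOf_eq_one_iff.1 e)
  have hrM : (r : G) ∈ D.M := by
    have h := D.M.mul_mem (D.emb_mem_M k0) (D.M.inv_mem (D.conj_emb_mem_M n.2 k0))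
    rwa [show D.emb k0 * ((n : G) * D.emb k0 * (n : G)⁻¹)⁻¹ = (r : G) by
      simp [r, k, mul_inv_rev, mul_assoc]] at h
  refine ⟨r, ?_, hr7, fun m => ?_, hrM⟩
  · have h := D.Mov.mul_mem D.k_mov (D.Mov.inv_mem (D.conj_k_mov n.2))
    rwa [show D.emb k0 * ((n : G) * D.emb k0 * (n : G)⁻¹)⁻¹ = (r : G) by
      simp [r, k, mul_inv_rev, mul_assoc]] at h
  · obtain ⟨i, hi⟩ := (mem_powers_iff_mem_zpowers).2 hmem
    obtain ⟨l, hl⟩ := hnormal m
    refine ⟨l, ?_⟩
    rw [map_mul, map_mul, map_inv, ← hi, ← conj_pow]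
    rw [map_mul, map_mul, map_inv] at hl
    rw [hl, ← pow_mul, ← pow_mul, mul_comm]

/-- The stabilizer of `t` acts on `E` as a group of order three. -/
theorem Nt_cases {n : G} (hn : n ∈ D.Nt) : ∃ i : ℕ, (D.emb k0 ^ i)⁻¹ * n ∈ D.CE := by
  classical
  obtain ⟨w, hw⟩ := D.conj_emb_range (mem_centralizer_singleton_iff.1 hn.2) a0
  have hwV : ∃ u, IsV u ∧ u ≠ 1 ∧ n * D.emb a0 * n⁻¹ = D.emb u := by
    obtain ⟨u, hu, h | h⟩ := D.mem_E_iff.1 (D.conj_mem_E hn.1 D.a_mem)
    · refine ⟨u, hu, fun e => ?_, h⟩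
      rw [e, map_one] at h
      exact absurd (D.emb_inj (show D.emb a0 = D.emb 1 by
        rw [map_one]
        calc D.emb a0 = n⁻¹ * (n * D.emb a0 * n⁻¹) * n := by group
          _ = 1 := by rw [h]; group)) (by decide)
    · rw [hw] at h
      exact absurd ((map_mul D.emb w u⁻¹).trans (by rw [h, map_inv, mul_inv_cancel_right])) (D.emb_ne _)
  obtain ⟨u, hu, hu1, hnu⟩ := hwV
  obtain ⟨i, hi⟩ := V_orbit (show IsV a0 by simp [IsV]) hu (by decide) hu1
  refine ⟨i, ?_⟩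
  set m := (D.emb k0 ^ i)⁻¹ * n
  have hmN : m ∈ D.N := mul_mem (inv_mem (pow_mem D.k_mem_N i)) hn.1
  have hki : ∀ j : ℕ, D.emb k0 ^ j * D.t = D.t * D.emb k0 ^ j := fun j => by
    rw [← map_pow, D.emb_comm]
  have hmt : m * D.t * m⁻¹ = D.t := by
    calc m * D.t * m⁻¹ = (D.emb k0 ^ i)⁻¹ * (n * D.t) * n⁻¹ * D.emb k0 ^ i := by simp only [m]; group
      _ = (D.emb k0 ^ i)⁻¹ * D.t * D.emb k0 ^ i := by rw [mem_centralizer_singleton_iff.1 hn.2]; group
      _ = D.t := by rw [mul_assoc, ← hki]; group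
  have hma : m * D.emb a0 * m⁻¹ = D.emb a0 := by
    calc m * D.emb a0 * m⁻¹ = (D.emb k0 ^ i)⁻¹ * (n * D.emb a0 * n⁻¹) * D.emb k0 ^ i := by simp only [m]; group
      _ = D.emb a0 := by rw [hnu, ← hi, map_mul, map_mul, map_inv, map_pow]; group
  obtain ⟨r, -, hr7, hnorm, -⟩ := D.exists_r
  obtain ⟨j, hj⟩ := hnorm ⟨m, hmN⟩
  rw [map_mul, map_mul, map_inv] at hj
  set σ := D.φ ⟨m, hmN⟩
  set ρ := D.φ r
  set T : D.E := ⟨D.t, D.t_mem_E⟩
  set A' : D.E := ⟨D.emb a0, D.a_mem⟩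
  have hT : σ T = T := Subtype.ext hmt
  have hA : σ A' = A' := Subtype.ext hma
  have hpow : ∀ l : ℕ, σ * ρ ^ l = ρ ^ (j * l) * σ := fun l => by
    rw [pow_mul, ← hj, conj_pow, inv_mul_cancel_right]
  obtain ⟨l, hl⟩ := D.orbit_pow hr7 (x := A') fun e => absurd
    (D.emb_inj ((congrArg Subtype.val e).trans (map_one D.emb).symm)) (by decide)
  have hl' : (ρ ^ (j * l)) T = (ρ ^ l) T := by
    have := congrArg (fun f : MulAut D.E => f T) (hpow l)
    simp only [MulAut.mul_apply, hT] at this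
    rw [← this, hl, hA]
  have hl0 : ¬ 7 ∣ l := fun hd => by
    rw [← hr7] at hd
    rw [orderOf_dvd_iff_pow_eq_one.1 hd] at hl
    exact D.emb_ne a0 (congrArg Subtype.val hl.symm)
  have hmod : j % 7 = 1 := by
    by_contra hne
    have hfix : ∀ d : ℕ, (ρ ^ d) T = T → 7 ∣ d := fun d hd => by
      by_contra hnd
      refine D.t_ne (congrArg Subtype.val (D.fpf (σ := ρ ^ d) ?_ hd))
      rw [orderOf_pow, hr7, Nat.coprime_iff_gcd_eq_one.1
        ((Nat.Prime.coprime_iff_not_dvd (by norm_num)).2 hnd), Nat.div_one]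
    rcases Nat.lt_or_ge (j * l) l with h | h
    · have := hfix (l - j * l) ((ρ ^ (j * l)).injective (by
        rw [← MulAut.mul_apply, ← pow_add, Nat.add_sub_cancel' h.le]; exact hl'.symm))
      have hj0 : j = 0 := by
        by_contra h0
        exact absurd (Nat.le_mul_of_pos_left l (Nat.pos_of_ne_zero h0)) (by omega)
      rw [hj0, zero_mul, Nat.sub_zero] at this
      exact hl0 this
    · have h7 := hfix (j * l - l) ((ρ ^ l).injective (by
        rw [← MulAut.mul_apply, ← pow_add, Nat.add_sub_cancel' h]; exact hl'))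
      have e : j * l - l = (j - 1) * l := by rw [Nat.sub_mul, one_mul]
      rw [e, (Nat.Prime.dvd_mul (by norm_num : Nat.Prime 7))] at h7
      rcases h7 with h7 | h7
      · by_cases hj0 : j = 0
        · subst hj0
          rw [zero_mul] at h
          exact hl0 (by simp [Nat.le_zero.1 h])
        · omega
      · exact hl0 h7
  have hσ : σ = 1 := MulEquiv.ext fun x => by
    by_cases hx : x = 1
    · rw [hx, map_one, map_one]
    obtain ⟨p, rfl⟩ := D.orbit_pow hr7 hx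
    have := congrArg (fun f : MulAut D.E => f T) (hpow p)
    simp only [MulAut.mul_apply, hT] at this
    rw [this]
    have hp : ρ ^ (j * p) = ρ ^ p := by
      rw [← pow_mod_orderOf, hr7, Nat.mul_mod, hmod, one_mul, Nat.mod_mod, ← hr7, pow_mod_orderOf]
    rw [hp]; rfl
  exact D.φ_eq_one.1 hσ

theorem CE_split {z : G} (hz : z ∈ D.CE) : ∃ e ∈ D.E, e * z ∈ D.Q := by
  obtain ⟨r, hrM, hr7, hnorm, -⟩ := D.exists_r
  obtain ⟨d, hd, hrz⟩ := hrM.2 z hz
  let g : D.E → D.E := fun e => e * D.φ r e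
  have hgi : Function.Injective g := fun e f h => by
    by_contra hne
    refine hne ?_
    have h' : e * f = D.φ r (e * f) := by
      have he : ∀ x : D.E, x * x = 1 := fun x => Subtype.ext (D.sq_E x.2)
      have hc : ∀ x y : D.E, x * y = y * x := fun x y => Subtype.ext (D.comm_E x.2 y.2)
      have h : e * D.φ r e = f * D.φ r f := h
      rw [map_mul]
      calc e * f = e * f * (D.φ r e * D.φ r e) := by rw [he, mul_one]
        _ = f * (e * D.φ r e) * D.φ r e := by rw [hc e f]; group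
        _ = f * (f * D.φ r f) * D.φ r e := by rw [h]
        _ = D.φ r f * D.φ r e := by rw [← mul_assoc, he, one_mul]
        _ = D.φ r e * D.φ r f := hc _ _
    have h1 := D.fpf hr7 h'.symm
    rw [mul_eq_one_iff_eq_inv] at h1
    rw [h1]
    exact (Subtype.ext (by
      show (f : G)⁻¹ = f
      exact inv_eq_of_mul_eq_one_right (D.sq_E f.2)))
  obtain ⟨⟨e, he⟩, hge⟩ := (Finite.injective_iff_surjective.1 hgi) ⟨d, hd⟩
  have hge : e * ((r : G) * e * (r : G)⁻¹) = d := congrArg Subtype.val hge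
  refine ⟨e, he, ?_⟩
  set z' := e * z
  have hzc : z' ∈ D.CE := mul_mem (D.E_le_CE he) hz
  have hrfix : (r : G) * z' * (r : G)⁻¹ = z' := by
    have hre := D.conj_mem_E r.2 he
    calc (r : G) * (e * z) * (r : G)⁻¹ = ((r : G) * e * (r : G)⁻¹) * ((r : G) * z * (r : G)⁻¹) := by group
      _ = z * ((r : G) * e * (r : G)⁻¹) * d := by rw [hrz, ← mul_assoc, ← D.mem_CE.1 hz _ hre]
      _ = z * (((r : G) * e * (r : G)⁻¹) * d) := mul_assoc _ _ _
      _ = z * e := by
        rw [← hge, D.comm_E he hre, ← mul_assoc ((r : G) * e * (r : G)⁻¹), D.sq_E hre, one_mul]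
      _ = e * z := D.mem_CE.1 hz _ he
  set k := D.emb k0
  obtain ⟨w, hw, hkz⟩ := D.k_mov.2 z' hzc
  obtain ⟨j, hj⟩ := hnorm ⟨k, D.k_mem_N⟩
  set c : G := ((r : G) ^ j)⁻¹ * (k * r * k⁻¹) with hc
  have hcCE : c ∈ D.CE := by
    refine D.φ_eq_one (n := (r ^ j)⁻¹ * (⟨k, D.k_mem_N⟩ * r * (⟨k, D.k_mem_N⟩ : D.N)⁻¹)).1 ?_
    rw [map_mul D.φ, hj, map_inv, map_pow, inv_mul_cancel]
  have hpowfix : ∀ l : ℕ, (r : G) ^ l * z' * ((r : G) ^ l)⁻¹ = z' := fun l => by
    induction l with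
    | zero => simp
    | succ l ih =>
      calc (r : G) ^ (l + 1) * z' * ((r : G) ^ (l + 1))⁻¹
          = (r : G) ^ l * ((r : G) * z' * (r : G)⁻¹) * ((r : G) ^ l)⁻¹ := by rw [pow_succ]; group
        _ = z' := by rw [hrfix, ih]
  -- the commutator of two elements of `C(E)` lies in `Q`
  have hQcomm : ∀ p q : G, p ∈ D.CE → q ∈ D.CE → p * q * p⁻¹ * q⁻¹ ∈ D.Q := by
    intro p q hp hq n hn
    have hp' : n⁻¹ * p * n ∈ D.CE := by simpa using D.CE_conj hp (inv_mem hn)
    have hq' : n⁻¹ * q * n ∈ D.CE := by simpa using D.CE_conj hq (inv_mem hn)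
    rw [show n⁻¹ * (p * q * p⁻¹ * q⁻¹) * n =
      (n⁻¹ * p * n) * (n⁻¹ * q * n) * (n⁻¹ * p * n)⁻¹ * (n⁻¹ * q * n)⁻¹ by group]
    obtain ⟨u, hu, hua⟩ := D.exists_A_factor hp'
    obtain ⟨v, hv, hva⟩ := D.exists_A_factor hq'
    generalize n⁻¹ * p * n = P at *
    generalize n⁻¹ * q * n = R at *
    have hP : P = D.emb u * (D.emb u * P) := by rw [← mul_assoc, D.emb_sq (IsV_sq hu), one_mul]
    have hR : R = D.emb v * (D.emb v * R) := by rw [← mul_assoc, D.emb_sq (IsV_sq hv), one_mul]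
    have c1 : Commute (D.emb u) (D.emb v * R) := (D.mem_CE.1 ((D.mem_A.1 hva).1) _ (D.emb_V_mem hu)).symm
    have c2 : Commute (D.emb u) (D.emb v) := D.comm_E (D.emb_V_mem hu) (D.emb_V_mem hv)
    have c3 : Commute (D.emb v) (D.emb u * P) := (D.mem_CE.1 ((D.mem_A.1 hua).1) _ (D.emb_V_mem hv)).symm
    have c4 : Commute (D.emb u) (D.emb u * P) := (D.mem_CE.1 ((D.mem_A.1 hua).1) _ (D.emb_V_mem hu)).symm
    have c5 : Commute (D.emb v) (D.emb v * R) := (D.mem_CE.1 ((D.mem_A.1 hva).1) _ (D.emb_V_mem hv)).symm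
    generalize D.emb u * P = a at *
    generalize D.emb v * R = b at *
    rw [hP, hR]
    have : D.emb u * a * (D.emb v * b) * (D.emb u * a)⁻¹ * (D.emb v * b)⁻¹ = a * b * a⁻¹ * b⁻¹ := by
      have f1 : D.emb u * a * (D.emb v * b) = D.emb u * D.emb v * (a * b) := (c3.symm).mul_mul_mul_comm _ _
      have f2 : D.emb v * b * (D.emb u * a) = D.emb v * D.emb u * (b * a) := (c1.symm).mul_mul_mul_comm _ _
      have d : Commute (D.emb u * D.emb v) (a * b * a⁻¹ * b⁻¹) :=
        (((c4.mul_left c3).mul_right (c1.mul_left c5)).mul_right (c4.mul_left c3).inv_right).mul_right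
          (c1.mul_left c5).inv_right
      calc D.emb u * a * (D.emb v * b) * (D.emb u * a)⁻¹ * (D.emb v * b)⁻¹
          = D.emb u * a * (D.emb v * b) * (D.emb v * b * (D.emb u * a))⁻¹ := by group
        _ = D.emb u * D.emb v * (a * b) * (D.emb u * D.emb v * (b * a))⁻¹ := by rw [f1, f2, c2.eq]
        _ = D.emb u * D.emb v * (a * b * a⁻¹ * b⁻¹) * (D.emb u * D.emb v)⁻¹ := by group
        _ = a * b * a⁻¹ * b⁻¹ := by rw [d.eq, mul_inv_cancel_right]
    rw [this]
    exact mul_mem (mul_mem (mul_mem hua hva) (inv_mem hua)) (inv_mem hva)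
  have hw1 : w = 1 := by
    have h1 : (k * (r : G) * k⁻¹) * (z' * w) * (k * (r : G) * k⁻¹)⁻¹ = z' * w := by
      rw [← hkz]
      calc k * (r : G) * k⁻¹ * (k * z' * k⁻¹) * (k * (r : G) * k⁻¹)⁻¹ =
          k * ((r : G) * z' * (r : G)⁻¹) * k⁻¹ := by group
        _ = k * z' * k⁻¹ := by rw [hrfix]
    rw [show k * (r : G) * k⁻¹ = (r : G) ^ j * c by rw [hc]; group] at h1
    set q := c * z' * c⁻¹ * z'⁻¹ with hq
    have hqQ : q ∈ D.Q := hQcomm c z' hcCE hzc
    have hcw : c * w * c⁻¹ = w := by rw [D.mem_CE.1 hcCE _ hw, mul_inv_cancel_right]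
    have h2 : (r : G) ^ j * q * ((r : G) ^ j)⁻¹ * z' * ((r : G) ^ j * w * ((r : G) ^ j)⁻¹) = z' * w := by
      calc (r : G) ^ j * q * ((r : G) ^ j)⁻¹ * z' * ((r : G) ^ j * w * ((r : G) ^ j)⁻¹)
          = (r : G) ^ j * q * ((r : G) ^ j)⁻¹ * ((r : G) ^ j * z' * ((r : G) ^ j)⁻¹) *
            ((r : G) ^ j * w * ((r : G) ^ j)⁻¹) := by rw [hpowfix]
        _ = (r : G) ^ j * (q * z') * w * ((r : G) ^ j)⁻¹ := by group
        _ = (r : G) ^ j * (c * z' * c⁻¹) * (c * w * c⁻¹) * ((r : G) ^ j)⁻¹ := by rw [hq, hcw]; group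
        _ = (r : G) ^ j * c * (z' * w) * ((r : G) ^ j * c)⁻¹ := by group
        _ = z' * w := h1
    set v := (r : G) ^ j * w * ((r : G) ^ j)⁻¹ with hv
    have hvE : v ∈ D.E := D.conj_mem_E (pow_mem r.2 j) hw
    have hq' := D.Q_conj hqQ (pow_mem r.2 j)
    set q' := (r : G) ^ j * q * ((r : G) ^ j)⁻¹
    have h3 : z'⁻¹ * q' * z' = w * v⁻¹ := by
      calc z'⁻¹ * q' * z' = z'⁻¹ * (q' * z' * v) * v⁻¹ := by group
        _ = w * v⁻¹ := by rw [h2]; group
    have h4 : w * v⁻¹ = 1 := D.Q_E (by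
      rw [← h3]
      simpa using D.Q_conj hq' (inv_mem (D.CE_le_N hzc))) (mul_mem hw (inv_mem hvE))
    by_contra hne
    have hfix : (D.φ r ^ j) ⟨w, hw⟩ = ⟨w, hw⟩ := Subtype.ext (by
      rw [← map_pow, D.φ_apply]
      exact (mul_inv_eq_one.1 h4).symm)
    have ho : orderOf (D.φ r ^ j) = 7 := by
      rw [← hj, map_mul, map_mul, map_inv, ← hr7]
      exact orderOf_injective (MulAut.conj (D.φ ⟨k, D.k_mem_N⟩)).toMonoidHom
        (MulAut.conj _).injective (D.φ r)
    exact hne (congrArg Subtype.val (D.fpf ho hfix))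
  have hzA : z' ∈ D.A := by
    obtain ⟨v, hv, hva⟩ := D.exists_A_factor hzc
    suffices h : v = 1 by rwa [h, map_one, one_mul] at hva
    have hk := (D.mem_A.1 hva).2 k0
    rw [hw1, mul_one] at hkz
    have hkz' : k * z' = z' * k := mul_inv_eq_iff_eq_mul.1 hkz
    have h : D.emb v * k = k * D.emb v := mul_right_cancel (b := z') (by
      rw [mul_assoc _ k, hkz', ← mul_assoc, hk, mul_assoc])
    have h' : v * k0 = k0 * v := D.emb_inj (by rw [map_mul, map_mul]; exact h)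
    rcases hv with rfl | rfl | rfl | rfl <;> first | rfl | exact absurd h' (by decide)
  intro n hn
  obtain ⟨i, hi⟩ := D.orbit_pow hr7 (x := ⟨n * D.t * n⁻¹, D.conj_mem_E hn D.t_mem_E⟩) fun e =>
    D.InD_ne ⟨n, rfl⟩ (congrArg Subtype.val e)
  have hi : (r : G) ^ i * D.t * ((r : G) ^ i)⁻¹ = n * D.t * n⁻¹ := by
    have := congrArg Subtype.val hi
    rwa [← map_pow, D.φ_apply] at this
  set m := ((r : G) ^ i)⁻¹ * n
  have hmN : m ∈ D.N := mul_mem (inv_mem (pow_mem r.2 i)) hn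
  have hmt : m * D.t = D.t * m := by
    calc m * D.t = ((r : G) ^ i)⁻¹ * (n * D.t * n⁻¹) * n := by simp only [m]; group
      _ = D.t * m := by rw [← hi]; simp only [m]; group
  have hfin : n⁻¹ * z' * n = m⁻¹ * z' * m := by
    calc n⁻¹ * z' * n = n⁻¹ * ((r : G) ^ i * z' * ((r : G) ^ i)⁻¹) * n := by rw [hpowfix]
      _ = m⁻¹ * z' * m := by simp only [m]; group
  rw [hfin]
  refine D.mem_A.2 ⟨by simpa using D.CE_conj hzc (inv_mem hmN), fun a => ?_⟩
  obtain ⟨b, hb⟩ := D.conj_emb_range hmt a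
  have := (D.mem_A.1 hzA).2 b
  calc m⁻¹ * z' * m * D.emb a = m⁻¹ * (z' * (m * D.emb a * m⁻¹)) * m := by group
    _ = m⁻¹ * ((m * D.emb a * m⁻¹) * z') * m := by rw [hb, this]
    _ = D.emb a * (m⁻¹ * z' * m) := by group

end WCtx

end Cfsg.Agent.Lead.JankoClosure
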